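import Cfsg.Prelude.Def_FusionSystem
import Cfsg.Agent.H747.Hyperfocal
import Cfsg.Agent.Lib.FrattiniPGroup
import Cfsg.Agent.Lib.NormalAbelian
import Mathlib.GroupTheory.Frattini
import Mathlib.GroupTheory.Nilpotent
import Mathlib.GroupTheory.PGroup
import Cfsg.Agent.H767.FusTransfer
set_option linter.all false

-- part: H747/Wreath
section
/-!
# Monomial form of a characteristic biset, and graded transfer (helper747)

`F` a fusion system on the finite `p`-group `S`. A right free `S`-`S`-biset is the same thing as an `S`-set `Y`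
together with a cocycle `c : S → Y → S`, `c (s t) y = c s (t y) * c t y` (the biset is `Y × S` with
`s (y, u) v = (s y, c s y * u * v)`). `IsChar F p Y c` says that this biset is `F`-generated, `F`-stable and has
`|Y|` prime to `p`.

* `exists_grading`: for `hyp(F) ≤ T` normal in `S`, the cocycle may be changed so that `c s y ∈ s T`.
* `exists_hom_of_graded`: for an `S`-invariant homomorphism `f : T → A`, `∑ y, f (c t y) = |Y| f t + g t` with a
  homomorphism `g : S → A`.
-/

set_option autoImplicit false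

namespace Cfsg.Agent.H747

open Cfsg Cfsg.FusionSystem Cfsg.Agent.H802

variable {Ω : Type*} [Group Ω] {S : Subgroup Ω}

/-- Cocycle identity. -/
def IsCocycle {Y : Type*} [MulAction S Y] (c : S → Y → S) : Prop :=
  ∀ s t y, c (s * t) y = c s (t • y) * c t y

/-- Stability of the monomial `S`-set `(Y, c)` under the maps of the system. -/
def IsStableMono (F : FusionSystem S) {Y : Type*} [MulAction S Y] (c : S → Y → S) : Prop :=
  ∀ (P : Subgroup Ω) (φ : P →* Ω), φ ∈ F.Hom P → ∃ (e : Y ≃ Y) (d : Y → S),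
    ∀ (g : P) (gs : S) (hs : S), (gs : Ω) = g → (hs : Ω) = φ g → ∀ y : Y,
      e (gs • y) = hs • e y ∧ c hs (e y) = d (gs • y) * c gs y * (d y)⁻¹

/-- The monomial `S`-set is generated by the maps of the system. -/
def IsGenMono (F : FusionSystem S) {Y : Type*} [MulAction S Y] (c : S → Y → S) : Prop :=
  ∀ y : Y, ∃ (P : Subgroup Ω) (φ : P →* Ω), φ ∈ F.Hom P ∧
    ∀ s : S, s • y = y → ∃ hs : (s : Ω) ∈ P, (c s y : Ω) = φ ⟨s, hs⟩

section

variable {Y : Type*} [MulAction S Y] {c : S → Y → S}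

theorem IsCocycle.one (hc : IsCocycle c) (y : Y) : c 1 y = 1 := by
  have h := hc 1 1 y
  rw [one_mul, one_smul] at h
  have h2 := congrArg (fun z => (c 1 y)⁻¹ * z) h
  simpa using h2.symm

theorem IsCocycle.twist (hc : IsCocycle c) (k : Y → S) :
    IsCocycle (fun s y => k (s • y) * c s y * (k y)⁻¹) := by
  intro s t y
  show k ((s * t) • y) * c (s * t) y * (k y)⁻¹ =
    k (s • t • y) * c s (t • y) * (k (t • y))⁻¹ * (k (t • y) * c t y * (k y)⁻¹)
  rw [hc, mul_smul]
  group

theorem IsStableMono.twist {F : FusionSystem S} (h : IsStableMono F c) (k : Y → S) :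
    IsStableMono F (fun s y => k (s • y) * c s y * (k y)⁻¹) := by
  intro P φ hφ
  obtain ⟨e, d, hed⟩ := h P φ hφ
  refine ⟨e, fun y => k (e y) * d y * (k y)⁻¹, fun g gs hs hg hh y => ?_⟩
  obtain ⟨h1, h2⟩ := hed g gs hs hg hh y
  refine ⟨h1, ?_⟩
  show k (hs • e y) * c hs (e y) * (k (e y))⁻¹ =
    k (e (gs • y)) * d (gs • y) * (k (gs • y))⁻¹ * (k (gs • y) * c gs y * (k y)⁻¹) *
      (k (e y) * d y * (k y)⁻¹)⁻¹
  rw [h2, ← h1]
  group

/-- `c(s, y)` may be changed so as to lie in `s T` for all `s`, `y`, if all maps of the system are inner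
modulo `T`. -/
theorem exists_grading {F : FusionSystem S} (hc : IsCocycle c) (hg : IsGenMono F c) (T : Subgroup S)
    [hT : T.Normal]
    (hin : ∀ (P : Subgroup Ω) (φ : P →* Ω), φ ∈ F.Hom P → ∃ b : S, ∀ (x : P) (xs ys : S), (xs : Ω) = x →
      (ys : Ω) = φ x → (b * xs * b⁻¹)⁻¹ * ys ∈ T) :
    ∃ k : Y → S, ∀ s y, s⁻¹ * (k (s • y) * c s y * (k y)⁻¹) ∈ T := by
  classical
  -- base points
  let O := MulAction.orbitRel.Quotient S Y
  let base : Y → Y := fun y => (Quotient.mk (MulAction.orbitRel S Y) y).out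
  have hbase : ∀ y, ∃ s : S, s • base y = y := by
    intro y
    have h : (MulAction.orbitRel S Y) (base y) y := Quotient.mk_out (s := MulAction.orbitRel S Y) y
    rw [MulAction.orbitRel_apply] at h
    obtain ⟨s, hs⟩ := h
    exact ⟨s⁻¹, by rw [← hs]; simp⟩
  have hbase2 : ∀ (s : S) y, base (s • y) = base y := by
    intro s y
    show (Quotient.mk (MulAction.orbitRel S Y) (s • y)).out = _
    have : Quotient.mk (MulAction.orbitRel S Y) (s • y) = Quotient.mk (MulAction.orbitRel S Y) y := by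
      apply Quotient.sound
      show (MulAction.orbitRel S Y) _ _
      rw [MulAction.orbitRel_apply]
      exact ⟨s, rfl⟩
    rw [this]
  choose t ht using hbase
  have hb : ∀ y, ∃ b : S, ∀ s : S, s • base y = base y → (b * s * b⁻¹)⁻¹ * c s (base y) ∈ T := by
    intro y
    obtain ⟨P, φ, hφ, hP⟩ := hg (base y)
    obtain ⟨b, hb⟩ := hin P φ hφ
    refine ⟨b, fun s hs => ?_⟩
    obtain ⟨hsP, hc'⟩ := hP s hs
    exact hb ⟨s, hsP⟩ s _ rfl hc'
  -- the element attached to the base point only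
  let B : Y → S := fun z => if h : ∃ b : S, ∀ s : S, s • z = z → (b * s * b⁻¹)⁻¹ * c s z ∈ T then h.choose else 1
  have hB : ∀ y s, s • base y = base y → (B (base y) * s * (B (base y))⁻¹)⁻¹ * c s (base y) ∈ T := by
    intro y s hs
    have h := hb y
    show ((if h : ∃ b : S, ∀ s : S, s • base y = base y → (b * s * b⁻¹)⁻¹ * c s (base y) ∈ T
      then h.choose else 1) * s * (if h : ∃ b : S, ∀ s : S, s • base y = base y →
        (b * s * b⁻¹)⁻¹ * c s (base y) ∈ T then h.choose else 1)⁻¹)⁻¹ * c s (base y) ∈ T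
    rw [dif_pos h]
    exact h.choose_spec s hs
  refine ⟨fun y => t y * (B (base y))⁻¹ * (c (t y) (base y))⁻¹, fun s y => ?_⟩
  show s⁻¹ * (t (s • y) * (B (base (s • y)))⁻¹ * (c (t (s • y)) (base (s • y)))⁻¹ * c s y *
    (t y * (B (base y))⁻¹ * (c (t y) (base y))⁻¹)⁻¹) ∈ T
  have h1 : t (s • y) • base y = s • y := by
    have := ht (s • y)
    rwa [hbase2] at this
  set z := base y with hz
  rw [hbase2]
  -- `t (s y) = s (t y) g` with `g` in the stabiliser of `z`
  set g : S := (s * t y)⁻¹ * t (s • y) with hgdef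
  have hgz : g • z = z := by
    rw [hgdef, mul_smul, h1, inv_smul_eq_iff, mul_smul, ht]
  have hts : t (s • y) = s * t y * g := by rw [hgdef]; group
  have h2 : c (t (s • y)) z = c s y * c (t y) z * c g z := by
    rw [hts, hc, hc, hgz, ht]
  have h3 := hB y g hgz
  rw [← hz] at h3 ⊢
  rw [h2, hts]
  set b := B z
  set u := c (t y) z
  -- the element is `(t g b⁻¹ c(g)⁻¹ b t⁻¹)`
  have h4 : s⁻¹ * (s * t y * g * b⁻¹ * (c s y * u * c g z)⁻¹ * c s y * (t y * b⁻¹ * u⁻¹)⁻¹) =
      (t y * b⁻¹) * (b * g * b⁻¹ * (c g z)⁻¹) * (t y * b⁻¹)⁻¹ := by group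
  rw [h4]
  refine hT.conj_mem _ ?_ _
  have h5 := hT.conj_mem _ (T.inv_mem h3) (b * g * b⁻¹)
  have h6 : b * g * b⁻¹ * ((b * g * b⁻¹)⁻¹ * c g z)⁻¹ * (b * g * b⁻¹)⁻¹ =
      b * g * b⁻¹ * (c g z)⁻¹ := by group
  rwa [h6] at h5

end

/-- All maps of a saturated system are inner modulo a normal subgroup of `S` containing `hyp(F)`. -/
theorem exists_inner_mod {F : FusionSystem S} {p : ℕ} [Fact p.Prime] [Finite S]
    (hS : IsPGroup p S) (hF : F.IsSaturated p) {T : Subgroup Ω}
    (hTn : S ≤ Subgroup.normalizer (T : Set Ω)) (hT : F.hyperfocalSubgroup p ≤ T) :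
    ∀ (P : Subgroup Ω) (φ : P →* Ω), φ ∈ F.Hom P →
      ∃ b ∈ S, ∀ x : P, (b * (x : Ω) * b⁻¹)⁻¹ * φ x ∈ T := by
  have hconj : ∀ s ∈ S, ∀ t ∈ T, s * t * s⁻¹ ∈ T := fun s hs t ht =>
    (Subgroup.mem_normalizer_iff.1 (hTn hs) t).1 ht
  refine Cfsg.Agent.H759.saturated_induction F hS hF
    (fun P φ => ∃ b ∈ S, ∀ x : P, (b * (x : Ω) * b⁻¹)⁻¹ * φ x ∈ T) ?_ ?_ ?_ ?_
  · rintro P R φ χ _ ⟨b, hb, hM⟩ h he
    refine ⟨b, hb, fun x => ?_⟩
    rw [he x]
    exact hM ⟨x, h x.2⟩
  · rintro P Q φ ψ χ hφ hψ ⟨b, hb, hM⟩ ⟨b', hb', hN⟩ he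
    refine ⟨b' * b, S.mul_mem hb' hb, fun x => ?_⟩
    obtain ⟨h, hx⟩ := he x
    rw [hx]
    have h1 := hconj b' hb' _ (hM x)
    have h2 := hN ⟨φ x, h⟩
    have h3 := T.mul_mem h1 h2
    have h4 : b' * ((b * (x : Ω) * b⁻¹)⁻¹ * φ x) * b'⁻¹ * ((b' * φ x * b'⁻¹)⁻¹ * ψ ⟨φ x, h⟩) =
        (b' * b * (x : Ω) * (b' * b)⁻¹)⁻¹ * ψ ⟨φ x, h⟩ := by group
    rwa [h4] at h3
  · rintro P R φ χ hφ ⟨b, hb, hM⟩ hχ he
    refine ⟨b⁻¹, S.inv_mem hb, fun y => ?_⟩
    obtain ⟨x, hx, hy⟩ := he y
    rw [hy, ← hx]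
    have h1 := hconj b⁻¹ (S.inv_mem hb) _ (T.inv_mem (hM x))
    have h2 : b⁻¹ * ((b * (x : Ω) * b⁻¹)⁻¹ * φ x)⁻¹ * b⁻¹⁻¹ =
        (b⁻¹ * φ x * b⁻¹⁻¹)⁻¹ * x := by group
    rwa [h2] at h1
  · intro Q hQ _ _ α hα
    obtain ⟨β, hβ, γ, hγ, rfl⟩ := exists_mul_mem_residual hQ hα
    obtain ⟨g, hg, hge⟩ := (mem_autInducedBy_iff S Q γ).1 hγ
    refine ⟨g, hg, fun x => ?_⟩
    rw [← hge x]
    exact hT (hyperfocal_mem hQ.1 hβ (γ x))

section graded

variable {Y : Type*} [MulAction S Y] {c : S → Y → S} {A : Type*} [AddCommGroup A]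

/-- A homomorphism on a normal subgroup extends to a function on the group which is additive for right
multiplication by elements of the subgroup. -/
theorem exists_section {G : Type*} [Group G] (T : Subgroup G) (f : G → A)
    (hf : ∀ a ∈ T, ∀ b ∈ T, f (a * b) = f a + f b) :
    ∃ F0 : G → A, (∀ s, ∀ t ∈ T, F0 (s * t) = F0 s + f t) ∧ ∀ t ∈ T, F0 t = f t := by
  classical
  let r : G → G := fun s => (QuotientGroup.mk s : G ⧸ T).out
  have hr : ∀ s, (r s)⁻¹ * s ∈ T := by
    intro s
    have h : (QuotientGroup.mk (r s) : G ⧸ T) = QuotientGroup.mk s := Quotient.out_eq _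
    rwa [QuotientGroup.eq] at h
  have hr2 : ∀ s, ∀ t ∈ T, r (s * t) = r s := by
    intro s t ht
    have h : (QuotientGroup.mk (s * t) : G ⧸ T) = QuotientGroup.mk s := by
      rw [QuotientGroup.eq]
      have : (s * t)⁻¹ * s = t⁻¹ := by group
      rw [this]
      exact T.inv_mem ht
    show (QuotientGroup.mk (s * t) : G ⧸ T).out = (QuotientGroup.mk s : G ⧸ T).out
    rw [h]
  refine ⟨fun s => f ((r s)⁻¹ * s) - f ((r 1)⁻¹ * 1), fun s t ht => ?_, fun t ht => ?_⟩
  · show f ((r (s * t))⁻¹ * (s * t)) - _ = f ((r s)⁻¹ * s) - _ + f t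
    rw [hr2 s t ht, ← mul_assoc, hf _ (hr s) _ ht]
    abel
  · show f ((r t)⁻¹ * t) - f ((r 1)⁻¹ * 1) = f t
    have h1 : r t = r 1 := by
      have := hr2 1 t ht
      rwa [one_mul] at this
    have h2 : (r 1)⁻¹ * t = ((r 1)⁻¹ * 1) * t := by group
    rw [h1, h2, hf _ (hr 1) _ ht]
    abel

variable [Fintype Y]

/-- **Graded transfer.** Let `T` be normal in `S`, `f` an `S`-invariant homomorphism on `T` and `c` a cocycle
with `c s y ∈ s T`. Then `∑ y, f (c t y) = |Y| f t + g t` for `t ∈ T` with a homomorphism `g : S → A`. -/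
theorem exists_hom_of_graded (hc : IsCocycle c) (T : Subgroup S) [hT : T.Normal]
    (hgr : ∀ s y, s⁻¹ * c s y ∈ T) (f : S → A) (hf : ∀ a ∈ T, ∀ b ∈ T, f (a * b) = f a + f b)
    (hfS : ∀ s : S, ∀ t ∈ T, f (s * t * s⁻¹) = f t) :
    ∃ g : S → A, (∀ a b, g (a * b) = g a + g b) ∧
      ∀ t ∈ T, ∑ y : Y, f (c t y) = Fintype.card Y • f t + g t := by
  obtain ⟨F0, hF0, hF0T⟩ := exists_section T f hf
  have hl : ∀ s, ∀ t ∈ T, F0 (t * s) = f t + F0 s := by
    intro s t ht
    have h1 : t * s = s * (s⁻¹ * t * s) := by group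
    have h2 : s⁻¹ * t * s ∈ T := by
      have := hT.conj_mem t ht s⁻¹
      rwa [inv_inv] at this
    have h3 : f (s⁻¹ * t * s) = f t := by
      have := hfS s⁻¹ t ht
      rwa [inv_inv] at this
    rw [h1, hF0 _ _ h2, h3, add_comm]
  -- the cocycle
  have hγ : ∀ s s' t t' : S, t ∈ T → t' ∈ T →
      F0 (s * t * (s' * t')) - F0 (s * t) - F0 (s' * t') = F0 (s * s') - F0 s - F0 s' := by
    intro s s' t t' ht ht'
    have h1 : s * t * (s' * t') = (s * s') * ((s'⁻¹ * t * s') * t') := by group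
    have h2 : s'⁻¹ * t * s' ∈ T := by
      have := hT.conj_mem t ht s'⁻¹
      rwa [inv_inv] at this
    have h3 : f (s'⁻¹ * t * s') = f t := by
      have := hfS s'⁻¹ t ht
      rwa [inv_inv] at this
    rw [h1, hF0 _ _ (T.mul_mem h2 ht'), hf _ h2 _ ht', h3, hF0 _ _ ht, hF0 _ _ ht']
    abel
  have hγ' : ∀ s s' u u' : S, s⁻¹ * u ∈ T → s'⁻¹ * u' ∈ T →
      F0 (u * u') = F0 u + F0 u' + (F0 (s * s') - F0 s - F0 s') := by
    intro s s' u u' hu hu'
    have h := hγ s s' _ _ hu hu'
    have e1 : s * (s⁻¹ * u) = u := by group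
    have e2 : s' * (s'⁻¹ * u') = u' := by group
    rw [e1, e2] at h
    rw [← h]
    abel
  refine ⟨fun s => ∑ y : Y, F0 (c s y) - Fintype.card Y • F0 s, fun a b => ?_, fun t ht => ?_⟩
  · show ∑ y : Y, F0 (c (a * b) y) - Fintype.card Y • F0 (a * b) =
      ∑ y : Y, F0 (c a y) - Fintype.card Y • F0 a + (∑ y : Y, F0 (c b y) - Fintype.card Y • F0 b)
    have h1 : ∑ y : Y, F0 (c (a * b) y) =
        ∑ y : Y, F0 (c a y) + ∑ y : Y, F0 (c b y) + Fintype.card Y • (F0 (a * b) - F0 a - F0 b) := by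
      have h2 : ∀ y : Y, F0 (c (a * b) y) =
          F0 (c a (b • y)) + F0 (c b y) + (F0 (a * b) - F0 a - F0 b) := by
        intro y
        rw [hc]
        exact hγ' a b _ _ (hgr a _) (hgr b y)
      rw [Finset.sum_congr rfl (fun y _ => h2 y), Finset.sum_add_distrib, Finset.sum_add_distrib,
        Finset.sum_const, Finset.card_univ]
      congr 2
      exact Fintype.sum_equiv (MulAction.toPerm b) _ _ (fun y => rfl)
    rw [h1, smul_sub, smul_sub]
    abel
  · show ∑ y : Y, f (c t y) = Fintype.card Y • f t + (∑ y : Y, F0 (c t y) - Fintype.card Y • F0 t)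
    have h1 : ∀ y : Y, F0 (c t y) = f (c t y) := by
      intro y
      apply hF0T
      have h := T.mul_mem ht (hgr t y)
      have e : t * (t⁻¹ * c t y) = c t y := by group
      rwa [e] at h
    rw [Finset.sum_congr rfl (fun y _ => h1 y), hF0T t ht]
    abel

/-- The graded transfer of an `S`-invariant homomorphism is invariant under the maps of the system. -/
theorem transfer_invariant {F : FusionSystem S} (hst : IsStableMono F c) (T : Subgroup S)
    [hT : T.Normal] (hgr : ∀ s y, s⁻¹ * c s y ∈ T) (f : S → A)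
    (hf : ∀ a ∈ T, ∀ b ∈ T, f (a * b) = f a + f b) (hfS : ∀ s : S, ∀ t ∈ T, f (s * t * s⁻¹) = f t)
    {P : Subgroup Ω} {φ : P →* Ω} (hφ : φ ∈ F.Hom P) (g : P) (gs hs : S) (hg : (gs : Ω) = g)
    (hh : (hs : Ω) = φ g) (hgT : gs ∈ T) (hhT : hs ∈ T) :
    ∑ y : Y, f (c hs y) = ∑ y : Y, f (c gs y) := by
  obtain ⟨e, d, hed⟩ := hst P φ hφ
  obtain ⟨F0, hF0, hF0T⟩ := exists_section T f hf
  have hl : ∀ s, ∀ t ∈ T, F0 (t * s) = f t + F0 s := by
    intro s t ht
    have h1 : t * s = s * (s⁻¹ * t * s) := by group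
    have h2 : s⁻¹ * t * s ∈ T := by
      have := hT.conj_mem t ht s⁻¹
      rwa [inv_inv] at this
    have h3 : f (s⁻¹ * t * s) = f t := by
      have := hfS s⁻¹ t ht
      rwa [inv_inv] at this
    rw [h1, hF0 _ _ h2, h3, add_comm]
  have hcT : ∀ s ∈ T, ∀ y, c s y ∈ T := by
    intro s hs y
    have h := T.mul_mem hs (hgr s y)
    have e : s * (s⁻¹ * c s y) = c s y := by group
    rwa [e] at h
  have h1 : ∑ y : Y, f (c hs y) = ∑ y : Y, f (c hs (e y)) :=
    (Fintype.sum_equiv e _ _ (fun y => rfl)).symm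
  rw [h1]
  have h2 : ∀ y : Y, f (c hs (e y)) = F0 (d (gs • y)) - F0 (d y) + f (c gs y) := by
    intro y
    obtain ⟨-, h3⟩ := hed g gs hs hg hh y
    have h4 : c hs (e y) ∈ T := hcT _ hhT _
    have h5 : c gs y ∈ T := hcT _ hgT _
    -- `d (g y) d(y)⁻¹ ∈ T`
    have h6 : d y * c gs y * (d y)⁻¹ ∈ T := hT.conj_mem _ h5 _
    have h7 : c hs (e y) * (d y * c gs y * (d y)⁻¹)⁻¹ = d (gs • y) * (d y)⁻¹ := by
      rw [h3]; group
    have h8 : d (gs • y) * (d y)⁻¹ ∈ T := by
      rw [← h7]
      exact T.mul_mem h4 (T.inv_mem h6)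
    have h9 : c hs (e y) = (d (gs • y) * (d y)⁻¹) * (d y * c gs y * (d y)⁻¹) := by
      rw [h3]; group
    have h10 : F0 (d (gs • y)) = f (d (gs • y) * (d y)⁻¹) + F0 (d y) := by
      rw [← hl _ _ h8]
      congr 1
      group
    rw [h9, hf _ h8 _ h6, hfS _ _ h5, h10]
    abel
  rw [Finset.sum_congr rfl (fun y _ => h2 y), Finset.sum_add_distrib, Finset.sum_sub_distrib]
  have h3 : ∑ y : Y, F0 (d (gs • y)) = ∑ y : Y, F0 (d y) :=
    Fintype.sum_equiv (MulAction.toPerm gs) _ _ (fun y => rfl)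
  rw [h3]
  abel

end graded

end Cfsg.Agent.H747
end

-- part: H747/Tate
section
/-!
# Tate's theorem for fusion systems, from a characteristic monomial `S`-set (helper747)

* `IsCharMono F p c`: the monomial `S`-set `(Y, c)` is a cocycle, generated by `F`, stable under `F`, and `|Y|`
  is prime to `p`.
* `exists_extend`: every `S`-invariant homomorphism `hyp(F) → A`, `A` an abelian group of exponent `p`, extends to `S`.
* `tate`: `Φ(S) foc(F) = Φ(S) foc(H)` implies `hyp(F) = hyp(H)` (`H ≤ F`, `F` saturated with a characteristic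
  monomial set).
-/

set_option autoImplicit false

namespace Cfsg.Agent.H747

open scoped commutatorElement
open Cfsg Cfsg.FusionSystem Cfsg.Agent.H802

universe v

variable {Ω : Type*} [Group Ω] {S : Subgroup Ω}

/-- The monomial `S`-set `(Y, c)` is characteristic for the fusion system. -/
structure IsCharMono (F : FusionSystem S) (p : ℕ) {Y : Type*} [MulAction S Y] (c : S → Y → S) : Prop where
  fin : Finite Y
  cocycle : IsCocycle c
  stable : IsStableMono F c
  gen : IsGenMono F c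
  card : ¬ p ∣ Nat.card Y

section

variable {A : Type*} [AddCommGroup A]

/-- A function on `S`, additive on `hyp(F)` and invariant there under the maps of the system, with values in a group
without elements of order prime to `p`, vanishes on `hyp(F)`. -/
theorem eq_zero_of_invariant {F : FusionSystem S} {p : ℕ} [Fact p.Prime]
    (f : S → A) (hf : ∀ a b : S, (a : Ω) ∈ F.hyperfocalSubgroup p → (b : Ω) ∈ F.hyperfocalSubgroup p →
      f (a * b) = f a + f b)
    (hA : ∀ (n : ℕ) (a : A), n.Coprime p → n • a = 0 → a = 0)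
    (hinv : ∀ (P : Subgroup Ω) (φ : P →* Ω), φ ∈ F.Hom P → ∀ (g : P) (gs hs : S), (gs : Ω) = g →
      (hs : Ω) = φ g → (gs : Ω) ∈ F.hyperfocalSubgroup p → (hs : Ω) ∈ F.hyperfocalSubgroup p → f hs = f gs) :
    ∀ t : S, (t : Ω) ∈ F.hyperfocalSubgroup p → f t = 0 := by
  set T := F.hyperfocalSubgroup p with hT
  have hTS : T ≤ S := hyperfocal_le_base F p
  have hf1 : f 1 = 0 := by
    have := hf 1 1 T.one_mem T.one_mem
    rw [one_mul] at this
    have h2 : f 1 + 0 = f 1 + f 1 := by rw [add_zero]; exact this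
    exact (add_left_cancel h2).symm
  have hfinv : ∀ a : S, (a : Ω) ∈ T → f a⁻¹ = - f a := by
    intro a ha
    have := hf a a⁻¹ ha (T.inv_mem ha)
    rw [mul_inv_cancel, hf1] at this
    exact (neg_eq_of_add_eq_zero_right this.symm).symm
  have hSN : ∀ s ∈ S, ∀ t ∈ T, s * t * s⁻¹ ∈ T := fun s hs t ht =>
    (Subgroup.mem_normalizer_iff.1 (le_normalizer_hyperfocal F p hs) t).1 ht
  have hfS : ∀ s t : S, (t : Ω) ∈ T → f (s * t * s⁻¹) = f t := by
    intro s t ht
    exact hinv S (conjHom S s) (F.conj_mem le_rfl s.2) t t (s * t * s⁻¹) rfl rfl ht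
      (hSN s s.2 t ht)
  -- the generators
  have key : ∀ (P : Subgroup Ω) (hP : P ≤ S), ∀ α ∈ F.autGroup P, (orderOf α).Coprime p →
      ∀ x : P, ∀ t : S, (t : Ω) = (x : Ω)⁻¹ * (α x : P) → f t = 0 := by
    intro P hP α hα ho
    let ι : P → S := fun x => ⟨x, hP x.2⟩
    have hι : ∀ x y, ι (x * y) = ι x * ι y := fun x y => rfl
    have hιi : ∀ x, ι x⁻¹ = (ι x)⁻¹ := fun x => rfl
    let D : P → A := fun x => f ((ι x)⁻¹ * ι (α x))
    have hmem : ∀ x : P, (((ι x)⁻¹ * ι (α x) : S) : Ω) ∈ T := fun x =>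
      hyperfocal_mem_of_coprime hP hα ho x
    -- `D` is additive
    have hD : ∀ x y, D (x * y) = D x + D y := by
      intro x y
      show f ((ι (x * y))⁻¹ * ι (α (x * y))) = f ((ι x)⁻¹ * ι (α x)) + f ((ι y)⁻¹ * ι (α y))
      have h1 : (ι (x * y))⁻¹ * ι (α (x * y)) =
          ((ι y)⁻¹ * ((ι x)⁻¹ * ι (α x)) * (ι y)⁻¹⁻¹) * ((ι y)⁻¹ * ι (α y)) := by
        rw [map_mul, hι, hι]
        group
      have h2 : (((ι y)⁻¹ * ((ι x)⁻¹ * ι (α x)) * (ι y)⁻¹⁻¹ : S) : Ω) ∈ T :=
        hSN _ (ι y)⁻¹.2 _ (hmem x)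
      rw [h1, hf _ _ h2 (hmem y), hfS _ _ (hmem x)]
    -- `f (α z) = f z` for `z` in `P ∩ T`
    have hα' := (mem_autGroup_iff F hP α).1 hα
    have hfα : ∀ z : P, (z : Ω) ∈ T → ((α z : P) : Ω) ∈ T → f (ι (α z)) = f (ι z) := by
      intro z hz hz'
      exact hinv P _ hα' z (ι z) (ι (α z)) rfl rfl hz hz'
    -- `α` preserves `P ∩ T`
    have hαT : ∀ z : P, (z : Ω) ∈ T → ((α z : P) : Ω) ∈ T := by
      intro z hz
      have := T.mul_mem hz (hmem z)
      have e : (z : Ω) * (((ι z)⁻¹ * ι (α z) : S) : Ω) = (α z : P) := by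
        show (z : Ω) * ((z : Ω)⁻¹ * (α z : P)) = (α z : P)
        group
      rwa [e] at this
    intro x t ht
    have ht' : t = (ι x)⁻¹ * ι (α x) := Subtype.ext ht
    have hDx : f t = D x := by rw [ht']
    rw [hDx]
    -- sum over the powers of `α`
    have hsum : ∀ n : ℕ, f ((ι x)⁻¹ * ι ((α ^ n) x)) = n • D x ∧ (((ι x)⁻¹ * ι ((α ^ n) x) : S) : Ω) ∈ T ∧
        ∀ z : P, (z : Ω) ∈ T → ((((α ^ n) z : P) : Ω) ∈ T ∧ f (ι ((α ^ n) z)) = f (ι z)) := by
      intro n
      induction n with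
      | zero =>
        refine ⟨?_, ?_, fun z hz => ⟨?_, ?_⟩⟩
        · simp [hf1]
        · simp
        · simpa using hz
        · simp
      | succ n ih =>
        obtain ⟨ih1, ih2, ih3⟩ := ih
        have h1 : (ι x)⁻¹ * ι ((α ^ (n + 1)) x) =
            ((ι x)⁻¹ * ι ((α ^ n) x)) * ι ((α ^ n) (x⁻¹ * α x)) := by
          have e1 : (α ^ (n + 1)) x = (α ^ n) (α x) := by rw [pow_succ]; rfl
          rw [e1, map_mul, hι, map_inv, hιi]
          group
        have hz : ((x⁻¹ * α x : P) : Ω) ∈ T := hmem x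
        obtain ⟨h2, h3⟩ := ih3 _ hz
        refine ⟨?_, ?_, fun z hz => ?_⟩
        · rw [h1, hf _ _ ih2 h2, ih1, h3, succ_nsmul]
          rfl
        · rw [h1]
          exact T.mul_mem ih2 h2
        · have e1 : (α ^ (n + 1)) z = α ((α ^ n) z) := by rw [pow_succ']; rfl
          obtain ⟨h4, h5⟩ := ih3 z hz
          rw [e1]
          exact ⟨hαT _ h4, (hfα _ h4 (hαT _ h4)).trans h5⟩
    obtain ⟨h1, -, -⟩ := hsum (orderOf α)
    rw [pow_orderOf_eq_one] at h1
    have h2 : (ι x)⁻¹ * ι ((1 : MulAut P) x) = 1 := by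
      show (ι x)⁻¹ * ι x = 1
      group
    rw [h2, hf1] at h1
    exact hA _ _ ho h1.symm
  intro t ht
  -- induction over the closure
  have hcl : ∀ u ∈ T, ∀ hu : u ∈ S, f ⟨u, hu⟩ = 0 := by
    let K : Subgroup Ω :=
      { carrier := {u | u ∈ T ∧ ∀ hu : u ∈ S, f ⟨u, hu⟩ = 0}
        mul_mem' := by
          rintro a b ⟨ha, ha'⟩ ⟨hb, hb'⟩
          refine ⟨T.mul_mem ha hb, fun hu => ?_⟩
          have := hf ⟨a, hTS ha⟩ ⟨b, hTS hb⟩ ha hb
          rw [ha', hb', add_zero] at this
          exact this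
        one_mem' := ⟨T.one_mem, fun _ => hf1⟩
        inv_mem' := by
          rintro a ⟨ha, ha'⟩
          refine ⟨T.inv_mem ha, fun hu => ?_⟩
          have := hfinv ⟨a, hTS ha⟩ ha
          rw [ha', neg_zero] at this
          exact this }
    have hle : T ≤ K := hyperfocal_le fun P hP α hα ho x =>
      ⟨hyperfocal_mem_of_coprime hP hα ho x, fun hu => key P hP α hα ho x ⟨_, hu⟩ rfl⟩
    exact fun u hu => (hle hu).2
  exact hcl t ht t.2

/-- **Extension theorem.** Every `S`-invariant homomorphism `hyp(F) → A`, `A` an abelian group of exponent `p`,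
extends to a homomorphism on `S`. -/
theorem exists_extend {F : FusionSystem S} {p : ℕ} [hp : Fact p.Prime] [Finite S]
    (hS : IsPGroup p S) (hF : F.IsSaturated p) {Y : Type*} [MulAction S Y] {c : S → Y → S}
    (hc : IsCharMono F p c) (hA : ∀ a : A, p • a = 0) (f : S → A)
    (hf : ∀ a b : S, (a : Ω) ∈ F.hyperfocalSubgroup p → (b : Ω) ∈ F.hyperfocalSubgroup p →
      f (a * b) = f a + f b)
    (hfS : ∀ s t : S, (t : Ω) ∈ F.hyperfocalSubgroup p → f (s * t * s⁻¹) = f t) :
    ∃ g : S → A, (∀ a b, g (a * b) = g a + g b) ∧ ∀ t : S, (t : Ω) ∈ F.hyperfocalSubgroup p → g t = f t := by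
  classical
  have hfinY := hc.fin
  have hft : Fintype Y := Fintype.ofFinite Y
  set T : Subgroup S := (F.hyperfocalSubgroup p).subgroupOf S with hT
  have hTn : T.Normal := by
    refine ⟨fun t ht s => ?_⟩
    rw [hT, Subgroup.mem_subgroupOf] at ht ⊢
    exact (Subgroup.mem_normalizer_iff.1 (le_normalizer_hyperfocal F p s.2) t).1 ht
  obtain ⟨k, hk⟩ := exists_grading (c := c) hc.cocycle hc.gen T (fun P φ hφ => by
    obtain ⟨b, hb, h⟩ := exists_inner_mod hS hF (le_normalizer_hyperfocal F p) le_rfl P φ hφ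
    refine ⟨⟨b, hb⟩, fun x xs ys hx hy => ?_⟩
    rw [hT, Subgroup.mem_subgroupOf]
    show (b * (xs : Ω) * b⁻¹)⁻¹ * (ys : Ω) ∈ _
    rw [hx, hy]
    exact h x)
  set c' : S → Y → S := fun s y => k (s • y) * c s y * (k y)⁻¹ with hc'
  have hcoc : IsCocycle c' := hc.cocycle.twist k
  have hst : IsStableMono F c' := hc.stable.twist k
  have hgr : ∀ s y, s⁻¹ * c' s y ∈ T := hk
  have hf' : ∀ a ∈ T, ∀ b ∈ T, f (a * b) = f a + f b := fun a ha b hb => hf a b ha hb
  have hfS' : ∀ s : S, ∀ t ∈ T, f (s * t * s⁻¹) = f t := fun s t ht => hfS s t ht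
  obtain ⟨g, hg1, hg2⟩ := exists_hom_of_graded hcoc T hgr f hf' hfS'
  have hcT : ∀ s ∈ T, ∀ y, c' s y ∈ T := by
    intro s hs y
    have h := T.mul_mem hs (hgr s y)
    have e : s * (s⁻¹ * c' s y) = c' s y := by group
    rwa [e] at h
  -- the transferred homomorphism vanishes on `hyp(F)`
  have hzero : ∀ t : S, (t : Ω) ∈ F.hyperfocalSubgroup p → ∑ y : Y, f (c' t y) = 0 := by
    refine eq_zero_of_invariant (F := F) (p := p) (fun t => ∑ y : Y, f (c' t y)) ?_ ?_ ?_
    · intro a b ha hb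
      show ∑ y : Y, f (c' (a * b) y) = ∑ y : Y, f (c' a y) + ∑ y : Y, f (c' b y)
      have h1 : ∀ y : Y, f (c' (a * b) y) = f (c' a (b • y)) + f (c' b y) := by
        intro y
        rw [hcoc]
        exact hf' _ (hcT a ha _) _ (hcT b hb _)
      rw [Finset.sum_congr rfl (fun y _ => h1 y), Finset.sum_add_distrib]
      congr 1
      exact Fintype.sum_equiv (MulAction.toPerm b) _ _ (fun y => rfl)
    · intro n a hn ha
      obtain ⟨u, v, huv⟩ : ∃ u v : ℤ, (n : ℤ) * u + (p : ℤ) * v = 1 := by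
        have := Nat.gcd_eq_gcd_ab n p
        rw [hn.gcd_eq_one] at this
        exact ⟨_, _, by exact_mod_cast this.symm⟩
      have h1 : a = ((n : ℤ) * u + (p : ℤ) * v) • a := by rw [huv, one_smul]
      have h2 : (n : ℤ) • a = 0 := by rw [natCast_zsmul]; exact ha
      have h3 : (p : ℤ) • a = 0 := by rw [natCast_zsmul]; exact hA a
      rw [h1, add_smul, mul_comm (n : ℤ), mul_comm (p : ℤ), mul_smul, mul_smul, h2, h3, smul_zero,
        smul_zero, add_zero]
    · intro P φ hφ x gs hs hg hh hgT hhT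
      exact transfer_invariant hst T hgr f hf' hfS' hφ x gs hs hg hh hgT hhT
  -- divide by `- |Y|`
  have hn : (Fintype.card Y).Coprime p := by
    rw [← Nat.card_eq_fintype_card]
    exact ((Nat.Prime.coprime_iff_not_dvd hp.out).2 hc.card).symm
  obtain ⟨u, v, huv⟩ : ∃ u v : ℤ, (Fintype.card Y : ℤ) * u + (p : ℤ) * v = 1 := by
    have := Nat.gcd_eq_gcd_ab (Fintype.card Y) p
    rw [hn.gcd_eq_one] at this
    exact ⟨_, _, by exact_mod_cast this.symm⟩
  refine ⟨fun s => (-u) • g s, fun a b => ?_, fun t ht => ?_⟩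
  · show (-u) • g (a * b) = (-u) • g a + (-u) • g b
    rw [hg1, smul_add]
  · show (-u) • g t = f t
    have h1 := hg2 t ht
    rw [hzero t ht] at h1
    have h2 : g t = -((Fintype.card Y : ℤ) • f t) := by
      rw [natCast_zsmul]
      exact (neg_eq_of_add_eq_zero_right h1.symm).symm
    have h3 : (p : ℤ) • f t = 0 := by rw [natCast_zsmul]; exact hA _
    have h4 : f t = ((Fintype.card Y : ℤ) * u + (p : ℤ) * v) • f t := by rw [huv, one_smul]
    rw [h2, smul_neg, neg_smul, neg_neg, ← mul_smul]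
    conv_rhs => rw [h4]
    rw [add_smul, mul_comm (p : ℤ), mul_smul v, h3, smul_zero, add_zero, mul_comm u]

/-- In a finite `p`-group, `H < K` normal: there is a homomorphism from `K` to an abelian group of exponent `p`,
invariant in the whole group, trivial on `H` and not on `K`. -/
theorem exists_invariant_hom {G : Type v} [Group G] [Finite G] {p : ℕ} [hp : Fact p.Prime]
    (hG : IsPGroup p G) {K H : Subgroup G} (hK : K.Normal) (hH : H.Normal) (hlt : H < K) :
    ∃ (B : Type v) (_ : AddCommGroup B) (f : G → B), (∀ a : B, p • a = 0) ∧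
      (∀ a ∈ K, ∀ b ∈ K, f (a * b) = f a + f b) ∧ (∀ s, ∀ t ∈ K, f (s * t * s⁻¹) = f t) ∧
      (∀ h ∈ H, f h = 0) ∧ ∃ k ∈ K, f k ≠ 0 := by
  classical
  -- a maximal normal subgroup `M` with `H ≤ M < K`
  obtain ⟨M, hHM, hM⟩ := Set.Finite.exists_le_maximal (Set.toFinite {M : Subgroup G | M.Normal ∧ M < K})
    (show H ∈ {M : Subgroup G | M.Normal ∧ M < K} from ⟨hH, hlt⟩)
  have hMn : M.Normal := hM.prop.1
  have hMK : M < K := hM.prop.2
  set q := QuotientGroup.mk' M with hq
  have hqs : Function.Surjective q := QuotientGroup.mk'_surjective M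
  have hGp : IsPGroup p (G ⧸ M) := hG.to_quotient M
  have hnil : Group.IsNilpotent (G ⧸ M) := hGp.isNilpotent
  have hKn : (K.map q).Normal := hK.map q hqs
  have hKne : K.map q ≠ ⊥ := by
    intro h
    rw [Subgroup.map_eq_bot_iff, QuotientGroup.ker_mk'] at h
    exact absurd h (not_le_of_gt hMK)
  -- maximality
  have hmax : ∀ L : Subgroup (G ⧸ M), L.Normal → L ≤ K.map q → L ≠ ⊥ → L = K.map q := by
    intro L hL hLK hLne
    by_contra hne
    have h1 : (L.comap q).Normal := hL.comap q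
    have h2 : L.comap q < K := by
      have h3 : (K.map q).comap q = K := by
        rw [Subgroup.comap_map_eq, QuotientGroup.ker_mk', sup_eq_left]
        exact hMK.le
      refine lt_of_le_of_ne ?_ ?_
      · rw [← h3]
        exact Subgroup.comap_mono hLK
      · intro h
        apply hne
        rw [← h, Subgroup.map_comap_eq_self_of_surjective hqs]
    have h3 : M ≤ L.comap q := by
      intro x hx
      have : q x = 1 := by
        rw [← MonoidHom.mem_ker, QuotientGroup.ker_mk']; exact hx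
      rw [Subgroup.mem_comap, this]
      exact L.one_mem
    have h4 : L.comap q ≤ M := hM.2 ⟨h1, h2⟩ h3
    apply hLne
    rw [eq_bot_iff, ← Subgroup.map_comap_eq_self_of_surjective hqs L, Subgroup.map_le_iff_le_comap]
    intro x hx
    rw [Subgroup.mem_comap, Subgroup.mem_bot, ← MonoidHom.mem_ker, QuotientGroup.ker_mk']
    exact h4 hx
  -- `K / M` is central
  have hKc : K.map q ≤ Subgroup.center (G ⧸ M) := by
    have h1 := Cfsg.Agent.Lib.NormalAbelian.normal_inf_center_ne_bot (K.map q) hKne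
    have h2 := hmax (K.map q ⊓ Subgroup.center (G ⧸ M)) inferInstance inf_le_left h1
    rw [← h2]
    exact inf_le_right
  -- `K / M` has exponent `p`
  have hKp : ∀ x ∈ K.map q, x ^ p = 1 := by
    by_contra hcon
    push Not at hcon
    obtain ⟨x₀, hx₀, hx₀1⟩ := hcon
    let L : Subgroup (G ⧸ M) :=
      { carrier := {y | ∃ x ∈ K.map q, x ^ p = y}
        mul_mem' := by
          rintro _ _ ⟨a, ha, rfl⟩ ⟨b, hb, rfl⟩
          refine ⟨a * b, (K.map q).mul_mem ha hb, ?_⟩
          have hab : Commute a b := (Subgroup.mem_center_iff.1 (hKc ha) b).symm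
          exact hab.mul_pow p
        one_mem' := ⟨1, (K.map q).one_mem, one_pow p⟩
        inv_mem' := by
          rintro _ ⟨a, ha, rfl⟩
          exact ⟨a⁻¹, (K.map q).inv_mem ha, inv_pow a p⟩ }
    have hLK : L ≤ K.map q := by
      rintro _ ⟨x, hx, rfl⟩
      exact (K.map q).pow_mem hx p
    have hLn : L.Normal := by
      refine ⟨fun y hy g => ?_⟩
      have := Subgroup.mem_center_iff.1 (hKc (hLK hy)) g
      have e : g * y * g⁻¹ = y := by rw [this]; group
      rwa [e]
    have hLne : L ≠ ⊥ := by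
      intro h
      have : x₀ ^ p ∈ L := ⟨x₀, hx₀, rfl⟩
      rw [h, Subgroup.mem_bot] at this
      exact hx₀1 this
    have hL := hmax L hLn hLK hLne
    -- surjective, hence injective
    let φ : K.map q → K.map q := fun x => ⟨x ^ p, (K.map q).pow_mem x.2 p⟩
    have hφs : Function.Surjective φ := by
      rintro ⟨y, hy⟩
      rw [← hL] at hy
      obtain ⟨x, hx, hxy⟩ := hy
      exact ⟨⟨x, hx⟩, Subtype.ext hxy⟩
    have hφi : Function.Injective φ := Finite.injective_iff_surjective.2 hφs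
    have hdvd : p ∣ Nat.card (K.map q) := by
      have hKpg : IsPGroup p (K.map q) := hGp.to_subgroup _
      obtain ⟨n, hn⟩ := hKpg.exists_card_eq
      rcases Nat.eq_zero_or_pos n with h0 | h0
      · exfalso
        apply hKne
        rw [h0, pow_zero] at hn
        exact Subgroup.card_eq_one.mp hn
      · rw [hn]
        exact dvd_pow_self p (by omega)
    obtain ⟨z, hz⟩ := exists_prime_orderOf_dvd_card' (G := K.map q) p hdvd
    have h1 : φ z = φ 1 := by
      apply Subtype.ext
      show (z : G ⧸ M) ^ p = (1 : G ⧸ M) ^ p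
      have := pow_orderOf_eq_one z
      rw [hz] at this
      rw [one_pow]
      exact congrArg Subtype.val this
    have h2 := hφi h1
    rw [h2, orderOf_one] at hz
    exact hp.out.one_lt.ne hz
  -- the target
  let E : Subgroup (G ⧸ M) :=
    { carrier := {x | x ∈ Subgroup.center (G ⧸ M) ∧ x ^ p = 1}
      mul_mem' := by
        rintro a b ⟨ha, ha'⟩ ⟨hb, hb'⟩
        refine ⟨(Subgroup.center (G ⧸ M)).mul_mem ha hb, ?_⟩
        have hab : Commute a b := (Subgroup.mem_center_iff.1 ha b).symm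
        rw [hab.mul_pow, ha', hb', one_mul]
      one_mem' := ⟨(Subgroup.center (G ⧸ M)).one_mem, one_pow p⟩
      inv_mem' := by
        rintro a ⟨ha, ha'⟩
        refine ⟨(Subgroup.center (G ⧸ M)).inv_mem ha, ?_⟩
        rw [inv_pow, ha', inv_one] }
  let _ : CommGroup E :=
    { (inferInstance : Group E) with
      mul_comm := fun a b => Subtype.ext (Subgroup.mem_center_iff.1 b.2.1 (a : G ⧸ M)) }
  have hE : ∀ t ∈ K, q t ∈ E := fun t ht => ⟨hKc ⟨t, ht, rfl⟩, hKp _ ⟨t, ht, rfl⟩⟩
  let f : G → Additive E := fun t => if h : t ∈ K then Additive.ofMul ⟨q t, hE t h⟩ else 0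
  have hf : ∀ t (h : t ∈ K), (((f t).toMul : E) : G ⧸ M) = q t := by
    intro t h
    show ((Additive.toMul (if h : t ∈ K then Additive.ofMul (⟨q t, hE t h⟩ : E) else 0) : E) :
      G ⧸ M) = q t
    rw [dif_pos h]
    rfl
  have hfe : ∀ (x y : Additive E), ((x.toMul : E) : G ⧸ M) = ((y.toMul : E) : G ⧸ M) → x = y := by
    intro x y h
    apply Additive.toMul.injective
    exact Subtype.ext h
  refine ⟨Additive E, inferInstance, f, fun a => ?_, fun a ha b hb => ?_, fun s t ht => ?_,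
    fun h hh => ?_, ?_⟩
  · apply Additive.toMul.injective
    exact Subtype.ext a.toMul.2.2
  · apply hfe
    rw [hf _ (K.mul_mem ha hb)]
    show q (a * b) = (((f a).toMul : E) : G ⧸ M) * (((f b).toMul : E) : G ⧸ M)
    rw [hf _ ha, hf _ hb, map_mul]
  · apply hfe
    rw [hf _ (hK.conj_mem t ht s), hf _ ht, map_mul, map_mul, map_inv]
    have := Subgroup.mem_center_iff.1 (hKc ⟨t, ht, rfl⟩ : q t ∈ _) (q s)
    rw [this]
    group
  · apply hfe
    have h1 : h ∈ M := hHM hh
    rw [hf _ (hMK.le h1)]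
    show q h = 1
    rw [← MonoidHom.mem_ker, QuotientGroup.ker_mk']
    exact h1
  · obtain ⟨k, hk, hkM⟩ := SetLike.exists_of_lt hMK
    refine ⟨k, hk, fun h => hkM ?_⟩
    have h1 := hf k hk
    rw [h] at h1
    rw [← QuotientGroup.ker_mk' M, MonoidHom.mem_ker, ← hq, ← h1]
    rfl

/-- **Tate's theorem**, key form: if `K` is normal in `S` and `K ≤ hyp(F) ≤ Φ(S) K` then `hyp(F) = K`. -/
theorem hyperfocal_eq_of_charMono {F : FusionSystem S} {p : ℕ} [hp : Fact p.Prime] [Finite S]
    (hS : IsPGroup p S) (hF : F.IsSaturated p)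
    {Y : Type*} [MulAction S Y] {c : S → Y → S} (hc : IsCharMono F p c) {K : Subgroup Ω}
    (hKn : S ≤ Subgroup.normalizer (K : Set Ω)) (hK : K ≤ F.hyperfocalSubgroup p)
    (h : F.hyperfocalSubgroup p ≤ (frattini ↥S).map S.subtype ⊔ K) :
    F.hyperfocalSubgroup p = K := by
  by_contra hne
  have hlt : K < F.hyperfocalSubgroup p := lt_of_le_of_ne hK (Ne.symm hne)
  have hKS : K ≤ S := hK.trans (hyperfocal_le_base F p)
  have hnorm : ∀ L : Subgroup Ω, S ≤ Subgroup.normalizer (L : Set Ω) → (L.subgroupOf S).Normal := by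
    intro L hL
    refine ⟨fun t ht s => ?_⟩
    rw [Subgroup.mem_subgroupOf] at ht ⊢
    exact (Subgroup.mem_normalizer_iff.1 (hL s.2) t).1 ht
  have hlt' : K.subgroupOf S < (F.hyperfocalSubgroup p).subgroupOf S := by
    refine lt_of_le_of_ne (Subgroup.comap_mono hK) fun he => hne ?_
    have h1 := congrArg (Subgroup.map S.subtype) he
    rw [Subgroup.map_subgroupOf_eq_of_le hKS,
      Subgroup.map_subgroupOf_eq_of_le (hyperfocal_le_base F p)] at h1
    exact h1.symm
  obtain ⟨B, hB, f, hBp, hf, hfS, hfH, k, hk, hfk⟩ :=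
    exists_invariant_hom hS (hnorm _ (le_normalizer_hyperfocal F p)) (hnorm K hKn) hlt'
  obtain ⟨g, hg, hgf⟩ := exists_extend hS hF hc hBp f (fun a b ha hb => hf a ha b hb)
    (fun s t ht => hfS s t ht)
  -- the kernel of `g`
  have hg1 : g 1 = 0 := by
    have := hg 1 1
    rw [one_mul] at this
    have h2 : g 1 + 0 = g 1 + g 1 := by rw [add_zero]; exact this
    exact (add_left_cancel h2).symm
  have hgi : ∀ a, g a⁻¹ = - g a := by
    intro a
    have := hg a a⁻¹
    rw [mul_inv_cancel, hg1] at this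
    exact (neg_eq_of_add_eq_zero_right this.symm).symm
  let N : Subgroup S :=
    { carrier := {s | g s = 0}
      mul_mem' := by
        intro a b (ha : g a = 0) (hb : g b = 0)
        show g (a * b) = 0
        rw [hg, ha, hb, add_zero]
      one_mem' := hg1
      inv_mem' := by
        intro a (ha : g a = 0)
        show g a⁻¹ = 0
        rw [hgi, ha, neg_zero] }
  have hNn : N.Normal := by
    refine ⟨fun a (ha : g a = 0) s => ?_⟩
    show g (s * a * s⁻¹) = 0
    rw [hg, hg, hgi, ha]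
    abel
  have hNcomm : ∀ a b : S, ⁅a, b⁆ ∈ N := by
    intro a b
    show g (a * b * a⁻¹ * b⁻¹) = 0
    rw [hg, hg, hg, hgi, hgi]
    abel
  have hgpow : ∀ (n : ℕ) (a : S), g (a ^ n) = n • g a := by
    intro n a
    induction n with
    | zero => simp [hg1]
    | succ n ih => rw [pow_succ, hg, ih, succ_nsmul]
  have hNpow : ∀ a : S, a ^ p ∈ N := by
    intro a
    show g (a ^ p) = 0
    rw [hgpow]
    exact hBp _
  have hΦ : frattini S ≤ N := Cfsg.Agent.Lib.FrattiniPGroup.frattini_le N hNcomm hNpow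
  have hHN : K ≤ N.map S.subtype := by
    intro x hx
    refine ⟨⟨x, hKS hx⟩, ?_, rfl⟩
    show g ⟨x, hKS hx⟩ = 0
    rw [hgf _ (hK hx)]
    exact hfH _ hx
  have hall : F.hyperfocalSubgroup p ≤ N.map S.subtype :=
    h.trans (sup_le (Subgroup.map_mono hΦ) hHN)
  obtain ⟨n, hn, hnk⟩ := hall hk
  have h1 : n = k := Subtype.ext hnk
  rw [h1] at hn
  apply hfk
  rw [← hgf k hk]
  exact hn

/-- **Tate's theorem for fusion systems**, given a characteristic monomial set. -/
theorem tate_of_charMono {F H : FusionSystem S} {p : ℕ} [hp : Fact p.Prime] [Finite S]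
    (hS : IsPGroup p S) (hF : F.IsSaturated p) (hH : H.IsSaturated p) (hle : H.IsSubsystemOf F)
    {Y : Type*} [MulAction S Y] {c : S → Y → S} (hc : IsCharMono F p c)
    (h : F.focalSubgroup ≤ (frattini ↥S).map S.subtype ⊔ H.focalSubgroup) :
    F.hyperfocalSubgroup p = H.hyperfocalSubgroup p := by
  have hKH : H.hyperfocalSubgroup p ≤ F.hyperfocalSubgroup p := by
    refine hyperfocal_le fun P hP α hα ho x => hyperfocal_mem_of_coprime hP ?_ ho x
    rw [mem_autGroup_iff F hP]
    exact hle P ((mem_autGroup_iff H hP α).1 hα)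
  refine hyperfocal_eq_of_charMono hS hF hc (le_normalizer_hyperfocal H p) hKH ?_
  refine (hyperfocal_le_focal F p).trans (h.trans ?_)
  rw [focal_eq hS hH]
  refine sup_le le_sup_left (sup_le le_sup_right ?_)
  refine le_trans ?_ le_sup_left
  rw [Subgroup.commutator_le]
  intro a ha b hb
  exact ⟨⁅(⟨a, ha⟩ : S), (⟨b, hb⟩ : S)⁆,
    Cfsg.Agent.Lib.FrattiniPGroup.commutator_mem_frattini hS _ _, rfl⟩

end

end Cfsg.Agent.H747
end

-- part: H767/BisetIface
section
/-!
# Characteristic bisets: convenient interface (helper767)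

`exists_biset`: finite `S × S`-set, stabilizers `{(x, φ x)}`, stability as an isomorphism, `|X| = |S| m` with `p ∤ m`.
`card_orbits_full`: the number of orbits with stabilizer of order `|S|` is prime to `p`.
-/

set_option autoImplicit false

namespace Cfsg.Agent.H767.FusTransfer

open Cfsg Cfsg.FusionSystem Cfsg.Agent.H802 Cfsg.Agent.H767.GSet Cfsg.Agent.H767.Biset
  Cfsg.Agent.H767.Transfer MulAction

universe u

variable {Ω : Type u} [Group Ω] {S : Subgroup Ω}

/-- Stability as an isomorphism: `e ((g, s) • x) = (φ g, s) • e x`. -/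
theorem exists_stability_equiv [Finite S] {F : FusionSystem S} {X : Type*} [MulAction (S × S) X] [Finite X]
    (hX : Gen F X) (hs : Stab F X 0) {P : Subgroup Ω} {φ : P →* Ω} (hφ : φ ∈ F.Hom P) :
    ∃ e : X ≃ X, ∀ (g : P) (s : S) (x : X),
      e (((⟨g, hom_le hφ g.2⟩, s) : S × S) • x) = ((⟨φ g, hom_apply_mem hφ g⟩, s) : S × S) • e x := by
  obtain ⟨e, he⟩ := exists_equiv_of_homs X (fstIn S P).subtype (twist φ (fun x => hom_apply_mem hφ x))
    (fun D => nf_twist hX hs hφ D (Nat.zero_le _))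
  refine ⟨e, fun g s x => ?_⟩
  have h1 : ((⟨g, hom_le hφ g.2⟩, s) : S × S) ∈ fstIn S P := g.2
  exact he ⟨_, h1⟩ x

/-- **Characteristic bisets**, interface form. -/
theorem exists_biset {p : ℕ} [Fact p.Prime] [Finite S] (hS : IsPGroup p S) {F : FusionSystem S}
    (hF : F.IsSaturated p) :
    ∃ (X : Type u) (_ : MulAction (S × S) X) (_ : Finite X) (m : ℕ), ¬ p ∣ m ∧ Nat.card X = Nat.card S * m ∧
      (∀ x : X, ∃ (P : Subgroup Ω) (φ : P →* Ω), φ ∈ F.Hom P ∧ stabilizer (S × S) x = tdiag S P φ) ∧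
      (∀ (r : S) (x : X), ((1, r) : S × S) • x = x → r = 1) ∧
      (∀ (r : S) (x : X), ((r, 1) : S × S) • x = x → r = 1) ∧
      ∀ (P : Subgroup Ω) (φ : P →* Ω) (hφ : φ ∈ F.Hom P), ∃ e : X ≃ X, ∀ (g : P) (s : S) (x : X),
        e (((⟨g, hom_le hφ g.2⟩, s) : S × S) • x) = ((⟨φ g, hom_apply_mem hφ g⟩, s) : S × S) • e x := by
  obtain ⟨X, _, _, m, hX, hs, hm, hpm⟩ := exists_char_biset hS hF
  refine ⟨X, inferInstance, inferInstance, m, hpm, hm, hX, fun r x h => gen_free hX r x h, ?_,
    fun P φ hφ => exists_stability_equiv hX hs hφ⟩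
  intro r x h
  obtain ⟨P, φ, hφ, he⟩ := hX x
  have h1 : ((r, 1) : S × S) ∈ tdiag S P φ := by rw [← he]; exact h
  obtain ⟨h2, h3⟩ := h1
  have h4 : (⟨(r : Ω), h2⟩ : P) = 1 := by
    apply F.injective_of_mem hφ
    rw [map_one]
    exact h3
  exact Subtype.ext (Subtype.mk.inj h4)

/-- The number of orbits whose stabilizers have order `|S|` is prime to `p`. -/
theorem not_dvd_card_orbits_full {p : ℕ} [Fact p.Prime] [Finite S] (hS : IsPGroup p S) {F : FusionSystem S}
    {X : Type*} [MulAction (S × S) X] [Finite X] (hX : Gen F X) {m : ℕ} (hm : Nat.card X = Nat.card S * m)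
    (hpm : ¬ p ∣ m) :
    ¬ p ∣ Nat.card {ω : Quotient (orbitRel (S × S) X) // Nat.card (stabilizer (S × S) ω.out) = Nat.card S} := by
  classical
  have hSpos : 0 < Nat.card S := Nat.card_pos
  intro hdvd
  apply hpm
  have h1 := Nat.card_congr (selfEquivSigmaOrbitsQuotientStabilizer (S × S) X)
  have : Fintype (Quotient (orbitRel (S × S) X)) := Fintype.ofFinite _
  rw [Nat.card_sigma, hm] at h1
  -- split the sum
  have h2 : ∀ ω : Quotient (orbitRel (S × S) X), ∃ k : ℕ,
      Nat.card ((S × S) ⧸ stabilizer (S × S) ω.out) =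
        Nat.card S * ((if Nat.card (stabilizer (S × S) ω.out) = Nat.card S then 1 else 0) + p * k) := by
    intro ω
    have hFD := hX ω.out
    by_cases h : Nat.card (stabilizer (S × S) ω.out) = Nat.card S
    · refine ⟨0, ?_⟩
      have h3 := Subgroup.card_eq_card_quotient_mul_card_subgroup (stabilizer (S × S) ω.out)
      rw [h, Nat.card_prod] at h3
      rw [if_pos h, mul_zero, add_zero, mul_one]
      exact (Nat.eq_of_mul_eq_mul_right hSpos h3).symm
    · have hlt : Nat.card (stabilizer (S × S) ω.out) < Nat.card S := by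
        refine lt_of_le_of_ne ?_ h
        rw [← hFD.card_map_snd]
        exact Subgroup.card_le_card_group _
      obtain ⟨k, hk⟩ := card_quot_dvd hS hFD hlt
      refine ⟨k, ?_⟩
      rw [if_neg h, zero_add, hk]
      ring
  choose k hk using h2
  rw [Finset.sum_congr rfl (fun ω _ => hk ω), ← Finset.mul_sum, Finset.sum_add_distrib, ← Finset.mul_sum,
    Finset.sum_boole] at h1
  have h3 := Nat.eq_of_mul_eq_mul_left hSpos h1
  rw [h3]
  refine dvd_add ?_ (Dvd.intro _ rfl)
  rw [Nat.card_eq_fintype_card, Fintype.card_subtype] at hdvd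
  exact_mod_cast hdvd

end Cfsg.Agent.H767.FusTransfer
end

-- part: H747/MonoOfBiset
section
/-!
# A characteristic monomial `S`-set from a characteristic biset (helper747)

* `exists_charMono`: every saturated fusion system over a finite `p`-group has a characteristic monomial set.
* `tate`: Tate's theorem for fusion systems.
-/

set_option autoImplicit false

namespace Cfsg.Agent.H747

open Cfsg Cfsg.FusionSystem Cfsg.Agent.H802 Cfsg.Agent.H767.Biset

universe u

variable {Ω : Type u} [Group Ω] {S : Subgroup Ω}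

section quot

variable (S) (X : Type u) [MulAction (S × S) X]

/-- Orbits of the second factor. -/
def sndSetoid : Setoid X where
  r x y := ∃ r : S, ((1, r) : S × S) • x = y
  iseqv :=
    { refl := fun x => ⟨1, one_smul (S × S) x⟩
      symm := by
        rintro x y ⟨r, rfl⟩
        refine ⟨r⁻¹, ?_⟩
        rw [← mul_smul]
        have : ((1, r⁻¹) : S × S) * (1, r) = 1 := by
          ext <;> simp
        rw [this, one_smul]
      trans := by
        rintro x y z ⟨r, rfl⟩ ⟨s, rfl⟩
        refine ⟨s * r, ?_⟩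
        rw [← mul_smul]
        have : ((1, s) : S × S) * (1, r) = (1, s * r) := by
          ext <;> simp
        rw [this] }

theorem smul_left_snd (g r : S) (x : X) :
    ((g, 1) : S × S) • ((1, r) : S × S) • x = ((1, r) : S × S) • ((g, 1) : S × S) • x := by
  rw [← mul_smul, ← mul_smul]
  have : ((g, 1) : S × S) * (1, r) = (1, r) * (g, 1) := by ext <;> simp
  rw [this]

/-- The orbit set of the second factor. -/
def SndQuot : Type u := Quotient (sndSetoid S X)

/-- The action of the first factor on the orbits of the second factor. -/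
instance instMulActionSndQuot : MulAction S (SndQuot S X) where
  smul g := Quotient.map' (s₁ := sndSetoid S X) (s₂ := sndSetoid S X) (fun x => ((g, 1) : S × S) • x) (by
    rintro x y ⟨r, rfl⟩
    exact ⟨r, (smul_left_snd S X g r x).symm⟩)
  one_smul := by
    rintro ⟨x⟩
    show Quotient.mk (sndSetoid S X) (((1, 1) : S × S) • x) = Quotient.mk (sndSetoid S X) x
    have : ((1, 1) : S × S) = 1 := rfl
    rw [this, one_smul]
  mul_smul := by
    rintro g h ⟨x⟩
    show Quotient.mk (sndSetoid S X) (((g * h, 1) : S × S) • x) =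
      Quotient.mk (sndSetoid S X) (((g, 1) : S × S) • ((h, 1) : S × S) • x)
    rw [← mul_smul]
    have : ((g, 1) : S × S) * (h, 1) = (g * h, 1) := by ext <;> simp
    rw [this]

end quot

/-- Every saturated fusion system over a finite `p`-group has a characteristic monomial set. -/
theorem exists_charMono {F : FusionSystem S} {p : ℕ} [hp : Fact p.Prime] [Finite S]
    (hS : IsPGroup p S) (hF : F.IsSaturated p) :
    ∃ (Y : Type u) (_ : MulAction S Y) (c : S → Y → S), IsCharMono F p c := by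
  classical
  obtain ⟨X, _, _, m, hpm, hm, hX, hfr, hfl, hst⟩ :=
    Cfsg.Agent.H767.FusTransfer.exists_biset hS hF
  let Y := SndQuot S X
  let w : Y → X := fun y => Quotient.out (s := sndSetoid S X) y
  have hw : ∀ y : Y, (Quotient.mk (sndSetoid S X) (w y) : Y) = y := fun y => Quotient.out_eq _
  have hex : ∀ x : X, ∃ d : S, ((1, d⁻¹) : S × S) • w (Quotient.mk (sndSetoid S X) x) = x := by
    intro x
    obtain ⟨r, hr⟩ : (sndSetoid S X) (w (Quotient.mk (sndSetoid S X) x)) x := Quotient.mk_out x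
    exact ⟨r⁻¹, by rw [inv_inv]; exact hr⟩
  choose κ hκ using hex
  -- `κ` is determined
  have huniq : ∀ (x y : X) (a b : S), ((1, a⁻¹) : S × S) • x = y → ((1, b⁻¹) : S × S) • x = y → a = b := by
    intro x y a b ha hb
    have h1 : ((1, a * b⁻¹) : S × S) • x = x := by
      have : ((1, a * b⁻¹) : S × S) = (1, a) * (1, b⁻¹) := by ext <;> simp
      rw [this, mul_smul, hb, ← ha, ← mul_smul]
      have : ((1, a) : S × S) * (1, a⁻¹) = 1 := by ext <;> simp
      rw [this, one_smul]
    have h2 := hfr _ _ h1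
    exact mul_inv_eq_one.1 h2
  have hκuniq : ∀ (x : X) (y : Y) (a : S), ((1, a⁻¹) : S × S) • w y = x → κ x = a := by
    intro x y a ha
    have h1 : (Quotient.mk (sndSetoid S X) x : Y) = y := by
      rw [← hw y]
      exact (Quotient.sound ⟨a⁻¹, ha⟩ : (Quotient.mk (sndSetoid S X) (w y) : Y) = Quotient.mk _ x).symm
    have h2 := hκ x
    have h3 : w (Quotient.mk (sndSetoid S X) x) = w y := by
      show w ((Quotient.mk (sndSetoid S X) x : Y)) = w y
      rw [h1]
    rw [h3] at h2
    exact huniq _ _ _ _ h2 ha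
  let c : S → Y → S := fun s y => κ (((s, 1) : S × S) • w y)
  -- `s w(y) = w(s y) c(s, y)`
  have hc : ∀ s y, ((1, (c s y)⁻¹) : S × S) • w (s • y) = ((s, 1) : S × S) • w y := by
    intro s y
    have h := hκ (((s, 1) : S × S) • w y)
    have h1 : (Quotient.mk (sndSetoid S X) (((s, 1) : S × S) • w y) : Y) = s • y := by
      conv_rhs => rw [← hw y]
      rfl
    have h2 : w (Quotient.mk (sndSetoid S X) (((s, 1) : S × S) • w y)) = w (s • y) := by
      show w ((Quotient.mk (sndSetoid S X) (((s, 1) : S × S) • w y) : Y)) = _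
      rw [h1]
    rw [h2] at h
    exact h
  have hsnd : ∀ (a b : S) (x : X), ((1, a⁻¹) : S × S) • ((1, b⁻¹) : S × S) • x =
      ((1, (b * a)⁻¹) : S × S) • x := by
    intro a b x
    rw [← mul_smul]
    have : ((1, a⁻¹) : S × S) * (1, b⁻¹) = (1, (b * a)⁻¹) := by ext <;> simp
    rw [this]
  refine ⟨Y, inferInstance, c, ?_⟩
  constructor
  · exact Quotient.finite _
  · -- cocycle
    intro s t y
    refine hκuniq _ ((s * t) • y) _ ?_
    rw [← hsnd, mul_smul s t y, hc, ← smul_left_snd S X, hc, ← mul_smul]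
    have : ((s, 1) : S × S) * (t, 1) = (s * t, 1) := by ext <;> simp
    rw [this]
  · -- stability
    intro P φ hφ
    obtain ⟨e, he⟩ := hst P φ hφ
    have he1 : ∀ (r : S) (x : X), e (((1, r) : S × S) • x) = ((1, r) : S × S) • e x := by
      intro r x
      have h := he 1 r x
      have h1 : ((⟨((1 : P) : Ω), hom_le hφ (1 : P).2⟩, r) : S × S) = (1, r) := rfl
      have h2 : ((⟨φ 1, hom_apply_mem hφ 1⟩, r) : S × S) = (1, r) := by
        ext
        · show φ 1 = 1
          exact map_one φ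
        · rfl
      rw [h1, h2] at h
      exact h
    have he2 : ∀ (r : S) (x : X), e.symm (((1, r) : S × S) • x) = ((1, r) : S × S) • e.symm x := by
      intro r x
      rw [Equiv.symm_apply_eq, he1, Equiv.apply_symm_apply]
    let eY : Y ≃ Y :=
      { toFun := Quotient.map' (s₁ := sndSetoid S X) (s₂ := sndSetoid S X) e (by
          rintro x y ⟨r, rfl⟩
          exact ⟨r, (he1 r x).symm⟩)
        invFun := Quotient.map' (s₁ := sndSetoid S X) (s₂ := sndSetoid S X) e.symm (by
          rintro x y ⟨r, rfl⟩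
          exact ⟨r, (he2 r x).symm⟩)
        left_inv := by
          rintro ⟨x⟩
          show Quotient.mk (sndSetoid S X) (e.symm (e x)) = Quotient.mk (sndSetoid S X) x
          rw [Equiv.symm_apply_apply]
        right_inv := by
          rintro ⟨x⟩
          show Quotient.mk (sndSetoid S X) (e (e.symm x)) = Quotient.mk (sndSetoid S X) x
          rw [Equiv.apply_symm_apply] }
    have heY : ∀ x : X, eY (Quotient.mk (sndSetoid S X) x : Y) = Quotient.mk (sndSetoid S X) (e x) :=
      fun x => rfl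
    let d : Y → S := fun y => κ (e (w y))
    -- `e(w y) = w(e y) d(y)`
    have hd : ∀ y, ((1, (d y)⁻¹) : S × S) • w (eY y) = e (w y) := by
      intro y
      have h := hκ (e (w y))
      have h1 : (Quotient.mk (sndSetoid S X) (e (w y)) : Y) = eY y := by
        rw [← heY, hw]
      have h2 : w (Quotient.mk (sndSetoid S X) (e (w y))) = w (eY y) := by
        show w ((Quotient.mk (sndSetoid S X) (e (w y)) : Y)) = _
        rw [h1]
      rw [h2] at h
      exact h
    refine ⟨eY, d, fun g gs hs hg hh y => ?_⟩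
    have hgs : gs = ⟨g, hom_le hφ g.2⟩ := Subtype.ext hg
    have hhs : hs = ⟨φ g, hom_apply_mem hφ g⟩ := Subtype.ext hh
    have heg : ∀ x : X, e (((gs, 1) : S × S) • x) = ((hs, 1) : S × S) • e x := by
      intro x
      rw [hgs, hhs]
      exact he g 1 x
    have h1 : eY (gs • y) = hs • eY y := by
      have h2 : gs • y = (Quotient.mk (sndSetoid S X) (((gs, 1) : S × S) • w y) : Y) := by
        conv_lhs => rw [← hw y]
        rfl
      have h3 : eY y = (Quotient.mk (sndSetoid S X) (e (w y)) : Y) := by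
        conv_lhs => rw [← hw y]
        exact heY _
      rw [h2, heY, heg, h3]
      rfl
    refine ⟨h1, ?_⟩
    -- `φ(g) w(e y) d(y) = w(φ(g) e y) c(φ(g), e y) d(y)` and `= e(g w y) = w(e(g y)) d(g y) c(g, y)`
    have h4 : ((1, (c hs (eY y) * d y)⁻¹) : S × S) • w (hs • eY y) = e (((gs, 1) : S × S) • w y) := by
      rw [← hsnd, hc, ← smul_left_snd S X, hd, heg]
    have h5 : ((1, (d (gs • y) * c gs y)⁻¹) : S × S) • w (hs • eY y) = e (((gs, 1) : S × S) • w y) := by
      rw [← hsnd, ← h1, hd, ← he1, hc]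
    have h6 := huniq _ _ _ _ h4 h5
    rw [← h6]
    group
  · -- generation
    intro y
    obtain ⟨P, φ, hφ, hP⟩ := hX (w y)
    refine ⟨P, φ, hφ, fun s hs => ?_⟩
    have h1 := hc s y
    rw [hs] at h1
    have h2 : ((s, c s y) : S × S) • w y = w y := by
      have : ((s, c s y) : S × S) = (1, c s y) * (s, 1) := by ext <;> simp
      rw [this, mul_smul, ← h1, ← mul_smul]
      have : ((1, c s y) : S × S) * (1, (c s y)⁻¹) = 1 := by ext <;> simp
      rw [this, one_smul]
    have h3 : ((s, c s y) : S × S) ∈ MulAction.stabilizer (S × S) (w y) := h2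
    rw [hP] at h3
    obtain ⟨h4, h5⟩ := h3
    exact ⟨h4, h5.symm⟩
  · -- the number of orbits
    have hcard : Nat.card X = Nat.card S * Nat.card Y := by
      have e : X ≃ S × Y :=
        { toFun := fun x => (κ x, Quotient.mk (sndSetoid S X) x)
          invFun := fun z => ((1, z.1⁻¹) : S × S) • w z.2
          left_inv := fun x => hκ x
          right_inv := by
            rintro ⟨a, y⟩
            have h1 : (Quotient.mk (sndSetoid S X) (((1, a⁻¹) : S × S) • w y) : Y) = y := by
              conv_rhs => rw [← hw y]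
              exact (Quotient.sound ⟨a⁻¹, rfl⟩ :
                (Quotient.mk (sndSetoid S X) (w y) : Y) = Quotient.mk _ (((1, a⁻¹) : S × S) • w y)).symm
            exact Prod.ext (hκuniq _ y a rfl) h1 }
      rw [Nat.card_congr e, Nat.card_prod]
    rw [hcard] at hm
    have : Nat.card Y = m := Nat.eq_of_mul_eq_mul_left Nat.card_pos hm
    rw [this]
    exact hpm

/-- **Tate's theorem for fusion systems.** -/
theorem tate {F H : FusionSystem S} {p : ℕ} [hp : Fact p.Prime] [Finite S]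
    (hS : IsPGroup p S) (hF : F.IsSaturated p) (hH : H.IsSaturated p) (hle : H.IsSubsystemOf F)
    (h : F.focalSubgroup ≤ (frattini ↥S).map S.subtype ⊔ H.focalSubgroup) :
    F.hyperfocalSubgroup p = H.hyperfocalSubgroup p := by
  obtain ⟨Y, _, c, hc⟩ := exists_charMono hS hF
  exact tate_of_charMono hS hF hH hle hc h

/-- **Tate's theorem**, key form: if `K` is normal in `S` and `K ≤ hyp(F) ≤ Φ(S) K` then `hyp(F) = K`. -/
theorem hyperfocal_eq_of_le_frattini_sup {F : FusionSystem S} {p : ℕ} [hp : Fact p.Prime] [Finite S]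
    (hS : IsPGroup p S) (hF : F.IsSaturated p) {K : Subgroup Ω}
    (hKn : S ≤ Subgroup.normalizer (K : Set Ω)) (hK : K ≤ F.hyperfocalSubgroup p)
    (h : F.hyperfocalSubgroup p ≤ (frattini ↥S).map S.subtype ⊔ K) :
    F.hyperfocalSubgroup p = K := by
  obtain ⟨Y, _, c, hc⟩ := exists_charMono hS hF
  exact hyperfocal_eq_of_charMono hS hF hc hKn hK h

/-- A saturated system with trivial hyperfocal subgroup is the inner system. -/
theorem hom_eq_inner_of_hyperfocal_eq_bot {F : FusionSystem S} {p : ℕ} [hp : Fact p.Prime] [Finite S]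
    (hS : IsPGroup p S) (hF : F.IsSaturated p) (h : F.hyperfocalSubgroup p = ⊥) (P : Subgroup Ω) :
    F.Hom P = (innerFusionSystem S).Hom P := by
  apply Set.Subset.antisymm
  · intro φ hφ
    obtain ⟨b, hb, hbe⟩ := exists_inner_mod hS hF (T := ⊥) (by
      rw [Subgroup.normalizer_eq_top (H := (⊥ : Subgroup Ω))]; exact le_top) h.le P φ hφ
    refine ⟨hom_le hφ, b, hb, fun x => ?_⟩
    have := Subgroup.mem_bot.1 (hbe x)
    exact (inv_mul_eq_one.1 this).symm
  · rintro φ ⟨hP, g, hg, he⟩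
    exact mem_of_apply_eq (F.conj_mem hP hg) he

/-- **A saturated system whose focal subgroup is contained in `Φ(S)` is the inner system** (Tate). -/
theorem hom_eq_inner_of_focal_le_frattini {F : FusionSystem S} {p : ℕ} [hp : Fact p.Prime] [Finite S]
    (hS : IsPGroup p S) (hF : F.IsSaturated p) (h : F.focalSubgroup ≤ (frattini ↥S).map S.subtype)
    (P : Subgroup Ω) : F.Hom P = (innerFusionSystem S).Hom P := by
  refine hom_eq_inner_of_hyperfocal_eq_bot hS hF ?_ P
  refine hyperfocal_eq_of_le_frattini_sup hS hF ?_ bot_le ?_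
  · rw [Subgroup.normalizer_eq_top (H := (⊥ : Subgroup Ω))]; exact le_top
  · exact ((hyperfocal_le_focal F p).trans h).trans le_sup_left

end Cfsg.Agent.H747
end
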