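import Cfsg.Agent.H545.Yoshida
import Cfsg.Agent.Lib.FrattiniPGroup
import Cfsg.Agent.H747.MonoOfBiset
set_option linter.all false

-- part: H747/MonoOrbit
section
/-!
# A nontrivial orbit with nontrivial transfer gives a quotient `C_p ≀ C_p` (helper747)

`κ : Q → Y → C_p` a cocycle for the action of the finite `p`-group `Q` on the finite set `Y`.

* `prod_eq_one_of_closed`: the product over an invariant set is trivial if all closed values are.
* `exists_surjective_of_orbit`: an orbit of `Q` with more than one element on which the product of `κ u` is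
  nontrivial, while the closed values at nontrivial cycles of `u` are trivial, gives a map of `Q` onto
  `C_p ≀ C_p`.
-/

set_option autoImplicit false

namespace Cfsg.Agent.H747.MonoOrbit

open Finset Cfsg.Agent.H545.WielandtYoshida Cfsg.Agent.H545.CommIter

section general

variable {G : Type*} [Group G] {Y : Type*} [MulAction G Y] {A : Type*} [CommGroup A]
  {κ : G → Y → A}

theorem cocycle_one (hκ : ∀ g h y, κ (g * h) y = κ g (h • y) * κ h y) (y : Y) : κ 1 y = 1 := by
  have h := hκ 1 1 y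
  rw [mul_one, one_smul] at h
  exact left_eq_mul.mp h

theorem prod_smul_eq {Z : Finset Y} {g : G} (hg : ∀ c ∈ Z, g • c ∈ Z) (φ : Y → A) :
    ∏ c ∈ Z, φ (g • c) = ∏ c ∈ Z, φ c := by
  classical
  have himg : Z.image (fun c => g • c) = Z := by
    refine Finset.eq_of_subset_of_card_le ?_ ?_
    · intro c hc
      obtain ⟨d, hd, rfl⟩ := Finset.mem_image.mp hc
      exact hg d hd
    · rw [Finset.card_image_of_injective _ (MulAction.injective g)]
  conv_rhs => rw [← himg]
  rw [Finset.prod_image]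
  intro a _ b _ hab
  exact MulAction.injective g hab

/-- Translating the set is the same as conjugating the element. -/
theorem prod_translate (hκ : ∀ g h y, κ (g * h) y = κ g (h • y) * κ h y) (Z : Finset Y) (z u : G)
    (hu : ∀ c ∈ Z, (z⁻¹ * u * z) • c ∈ Z) :
    ∏ c ∈ Z, κ u (z • c) = ∏ c ∈ Z, κ (z⁻¹ * u * z) c := by
  have h1 : ∀ c ∈ Z, κ (z⁻¹ * u * z) c =
      κ z⁻¹ (z • ((z⁻¹ * u * z) • c)) * κ u (z • c) * κ z c := by
    intro c _
    rw [mul_assoc z⁻¹ u z, hκ, hκ]
    have : (u * z) • c = z • ((z⁻¹ * (u * z)) • c) := by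
      rw [smul_smul]; congr 1; group
    rw [← this, mul_assoc]
  rw [Finset.prod_congr rfl h1, Finset.prod_mul_distrib, Finset.prod_mul_distrib,
    prod_smul_eq hu (fun c => κ z⁻¹ (z • c))]
  have h2 : (∏ c ∈ Z, κ z⁻¹ (z • c)) * ∏ c ∈ Z, κ z c = 1 := by
    rw [← Finset.prod_mul_distrib]
    refine Finset.prod_eq_one fun c _ => ?_
    rw [← hκ, inv_mul_cancel, cocycle_one hκ]
  rw [mul_right_comm, h2, one_mul]

theorem cocycle_pow (hκ : ∀ g h y, κ (g * h) y = κ g (h • y) * κ h y) (g : G) (c : Y) (n : ℕ) :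
    κ (g ^ n) c = ∏ i ∈ Finset.range n, κ g (g ^ i • c) := by
  induction n with
  | zero => simp [cocycle_one hκ]
  | succ n ih => rw [pow_succ', hκ, ih, Finset.prod_range_succ, mul_comm]

/-- If all "closed" cocycle values of powers of `g` are trivial then the product over an invariant
set is trivial. -/
theorem prod_eq_one_of_closed [Finite G] (hκ : ∀ g h y, κ (g * h) y = κ g (h • y) * κ h y)
    (g : G) (n : ℕ) :
    ∀ Z : Finset Y, Z.card = n → (∀ c ∈ Z, g • c ∈ Z) →
      (∀ c ∈ Z, ∀ m : ℕ, 0 < m → g ^ m • c = c → κ (g ^ m) c = 1) → ∏ c ∈ Z, κ g c = 1 := by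
  classical
  induction n using Nat.strong_induction_on with
  | _ n ih =>
    intro Y' hY hg hm
    rcases Y'.eq_empty_or_nonempty with rfl | ⟨c, hc⟩
    · simp
    have hpow : ∀ i : ℕ, ∀ d ∈ Y', g ^ i • d ∈ Y' := by
      intro i
      induction i with
      | zero => intro d hd; simpa using hd
      | succ i ihi => intro d hd; rw [pow_succ', mul_smul]; exact hg _ (ihi d hd)
    -- the length of the orbit
    have hex : ∃ m : ℕ, 0 < m ∧ g ^ m • c = c := by
      refine ⟨orderOf g, orderOf_pos g, ?_⟩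
      rw [pow_orderOf_eq_one, one_smul]
    let m := Nat.find hex
    have hm0 : 0 < m := (Nat.find_spec hex).1
    have hmc : g ^ m • c = c := (Nat.find_spec hex).2
    have hmin : ∀ k, k < m → 0 < k → g ^ k • c ≠ c := by
      intro k hk hk0 hkc
      exact Nat.find_min hex hk ⟨hk0, hkc⟩
    let Z : Finset Y := (Finset.range m).image (fun i => g ^ i • c)
    have hinj : Set.InjOn (fun i : ℕ => g ^ i • c) (Finset.range m : Set ℕ) := by
      intro i hi j hj hij
      simp only [Finset.coe_range, Set.mem_Iio] at hi hj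
      simp only at hij
      rcases lt_trichotomy i j with h | h | h
      · exfalso
        refine hmin (j - i) (by omega) (by omega) ?_
        apply MulAction.injective (g ^ i)
        simp only
        rw [smul_smul, ← pow_add, show i + (j - i) = j by omega, hij]
      · exact h
      · exfalso
        refine hmin (i - j) (by omega) (by omega) ?_
        apply MulAction.injective (g ^ j)
        simp only
        rw [smul_smul, ← pow_add, show j + (i - j) = i by omega, hij]
    have hZY : Z ⊆ Y' := by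
      intro d hd
      obtain ⟨i, _, rfl⟩ := Finset.mem_image.mp hd
      exact hpow i c hc
    have hcZ : c ∈ Z := Finset.mem_image.mpr ⟨0, Finset.mem_range.mpr hm0, by simp⟩
    have hgZ : ∀ d ∈ Z, g • d ∈ Z := by
      intro d hd
      obtain ⟨i, hi, rfl⟩ := Finset.mem_image.mp hd
      rw [Finset.mem_range] at hi
      by_cases h : i + 1 < m
      · exact Finset.mem_image.mpr ⟨i + 1, Finset.mem_range.mpr h, by simp only [pow_succ', mul_smul]⟩
      · have : i + 1 = m := by omega
        have h2 : g • g ^ i • c = c := by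
          rw [← mul_smul, ← pow_succ', this, hmc]
        rw [h2]
        exact hcZ
    have hprodZ : ∏ d ∈ Z, κ g d = 1 := by
      rw [Finset.prod_image hinj, ← cocycle_pow hκ]
      exact hm c hc m hm0 hmc
    -- the complement is invariant
    have hgZ' : ∀ d, g • d ∈ Z → d ∈ Z := by
      intro d hd
      have himg : Z.image (fun c => g • c) = Z := by
        refine Finset.eq_of_subset_of_card_le ?_ ?_
        · intro e he
          obtain ⟨d, hd, rfl⟩ := Finset.mem_image.mp he
          exact hgZ d hd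
        · rw [Finset.card_image_of_injective _ (MulAction.injective g)]
      rw [← himg] at hd
      obtain ⟨e, he, hed⟩ := Finset.mem_image.mp hd
      have := MulAction.injective g hed
      rwa [← this]
    have hrest : ∏ d ∈ Y' \ Z, κ g d = 1 := by
      refine ih (Y' \ Z).card ?_ (Y' \ Z) rfl ?_ ?_
      · rw [← hY]
        exact Finset.card_lt_card (Finset.sdiff_ssubset hZY ⟨c, hcZ⟩)
      · intro d hd
        rw [Finset.mem_sdiff] at hd ⊢
        exact ⟨hg d hd.1, fun h => hd.2 (hgZ' d h)⟩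
      · intro d hd k hk hkd
        exact hm d (Finset.mem_sdiff.mp hd).1 k hk hkd
    rw [← Finset.prod_sdiff hZY, hrest, hprodZ, one_mul]

end general

/-- A nontrivial orbit with nontrivial transfer. -/
theorem exists_surjective_of_orbit {Q : Type*} [Group Q] [Finite Q] {p : ℕ} [hp : Fact p.Prime]
    (hQ : IsPGroup p Q) {Y : Type*} [MulAction Q Y] [Fintype Y] {κ : Q → Y → Multiplicative (ZMod p)}
    (hκ : ∀ g h y, κ (g * h) y = κ g (h • y) * κ h y) (x : Y) (hx : ∃ g : Q, g • x ≠ x) (u : Q)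
    (hu : ∀ z ∈ MulAction.orbit Q x, ∀ m, 0 < m → u • z ≠ z → u ^ m • z = z → κ (u ^ m) z = 1)
    (O : Finset Y) (hO : ∀ z, z ∈ O ↔ z ∈ MulAction.orbit Q x)
    (hne : ∏ z ∈ O, κ u z ≠ 1) :
    ∃ (P : Sylow p (Equiv.Perm (Fin (p ^ 2))))
      (f : Q →* ↥(P : Subgroup (Equiv.Perm (Fin (p ^ 2))))), Function.Surjective f := by
  classical
  obtain ⟨g₀, hg₀⟩ := hx
  have hstab : MulAction.stabilizer Q x ≠ ⊤ := by
    intro h
    apply hg₀
    have : g₀ ∈ MulAction.stabilizer Q x := by rw [h]; exact Subgroup.mem_top _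
    exact this
  obtain ⟨M, hM, hsM⟩ := (eq_top_or_exists_le_coatom (MulAction.stabilizer Q x)).resolve_left hstab
  have hMn : M.Normal := Cfsg.Agent.Lib.FrattiniPGroup.normal_of_coatom hQ hM
  have hMi : M.index = p := Cfsg.Agent.Lib.FrattiniPGroup.index_of_coatom hQ hM
  have hsM' : ∀ g : Q, g • x = x → g ∈ M := fun g hg => hsM hg
  -- `u` lies in `M`
  have huM : u ∈ M := by
    by_contra huM
    apply hne
    refine prod_eq_one_of_closed hκ u O.card O rfl ?_ ?_
    · intro z hz
      rw [hO] at hz ⊢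
      obtain ⟨g, rfl⟩ := hz
      exact ⟨u * g, mul_smul _ _ _⟩
    · intro z hz m hm hmz
      rw [hO] at hz
      refine hu z hz m hm (fun h => huM ?_) hmz
      obtain ⟨g, rfl⟩ := hz
      have h1 : (g⁻¹ * u * g) • x = x := by
        rw [mul_smul, mul_smul]
        have h' : u • g • x = g • x := h
        rw [h', inv_smul_smul]
      have h2 := hMn.conj_mem _ (hsM' _ h1) g
      have h3 : g * (g⁻¹ * u * g) * g⁻¹ = u := by group
      rwa [h3] at h2
  -- an element outside `M`
  obtain ⟨t, ht⟩ : ∃ t : Q, t ∉ M := by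
    by_contra hcon
    push Not at hcon
    exact hM.1 (eq_top_iff.2 fun g _ => hcon g)
  -- powers of `t` modulo `M`
  have hcardq : Nat.card (Q ⧸ M) = p := by rw [← Subgroup.index_eq_card, hMi]
  have htp : orderOf (QuotientGroup.mk' M t) = p := by
    refine orderOf_eq_prime ?_ ?_
    · rw [← hcardq]; exact pow_card_eq_one'
    · intro h
      exact ht ((QuotientGroup.eq_one_iff t).1 h)
  have hpow : ∀ i : ℤ, t ^ i ∈ M → (p : ℤ) ∣ i := by
    intro i hi
    rw [← htp]
    apply orderOf_dvd_iff_zpow_eq_one.2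
    rw [← map_zpow]
    exact (QuotientGroup.eq_one_iff _).2 hi
  have hcov : ∀ g : Q, ∃ i < p, (t ^ i)⁻¹ * g ∈ M := by
    intro g
    have h1 : (QuotientGroup.mk' M g) ∈ Subgroup.zpowers (QuotientGroup.mk' M t) := by
      have h2 : Subgroup.zpowers (QuotientGroup.mk' M t) = ⊤ := by
        apply Subgroup.eq_top_of_card_eq
        rw [Nat.card_zpowers, htp, hcardq]
      rw [h2]
      exact Subgroup.mem_top _
    rw [← mem_powers_iff_mem_zpowers, mem_powers_iff_mem_range_orderOf, htp] at h1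
    obtain ⟨i, hi, he⟩ := Finset.mem_image.1 h1
    refine ⟨i, Finset.mem_range.1 hi, ?_⟩
    rw [← QuotientGroup.eq]
    exact he
  -- the blocks
  let B : Finset Y := Finset.univ.filter fun z => ∃ m ∈ M, m • x = z
  have hB : ∀ z, z ∈ B ↔ ∃ m ∈ M, m • x = z := by
    intro z
    simp [B]
  have hBM : ∀ m ∈ M, ∀ z ∈ B, m • z ∈ B := by
    intro m hm z hz
    rw [hB] at hz ⊢
    obtain ⟨k, hk, rfl⟩ := hz
    exact ⟨m * k, M.mul_mem hm hk, mul_smul _ _ _⟩
  have hOB : O = (Finset.range p).biUnion fun i => B.image fun z => t ^ i • z := by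
    ext z
    rw [hO, Finset.mem_biUnion]
    constructor
    · rintro ⟨g, rfl⟩
      obtain ⟨i, hi, hm⟩ := hcov g
      refine ⟨i, Finset.mem_range.2 hi, Finset.mem_image.2 ⟨((t ^ i)⁻¹ * g) • x, ?_, ?_⟩⟩
      · rw [hB]
        exact ⟨_, hm, rfl⟩
      · rw [← mul_smul, mul_inv_cancel_left]
    · rintro ⟨i, _, hz⟩
      obtain ⟨w, hw, rfl⟩ := Finset.mem_image.1 hz
      obtain ⟨m, _, rfl⟩ := (hB w).1 hw
      exact ⟨t ^ i * m, mul_smul _ _ _⟩
  have hdisj : Set.PairwiseDisjoint (↑(Finset.range p) : Set ℕ) fun i => B.image fun z => t ^ i • z := by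
    intro i hi j hj hij
    simp only [Function.onFun]
    rw [Finset.disjoint_left]
    intro z hz hz'
    obtain ⟨w, hw, rfl⟩ := Finset.mem_image.1 hz
    obtain ⟨w', hw', he⟩ := Finset.mem_image.1 hz'
    obtain ⟨m, hm, rfl⟩ := (hB w).1 hw
    obtain ⟨m', hm', rfl⟩ := (hB w').1 hw'
    have h1 : (m⁻¹ * ((t ^ i)⁻¹ * t ^ j) * m') • x = x := by
      have he' : t ^ j • m' • x = t ^ i • m • x := he
      rw [mul_smul, mul_smul, mul_smul, he', inv_smul_smul, inv_smul_smul]
    have h2 := hsM' _ h1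
    have h3 : (t ^ i)⁻¹ * t ^ j ∈ M := by
      have h4 := M.mul_mem (M.mul_mem hm h2) (M.inv_mem hm')
      have h5 : m * (m⁻¹ * ((t ^ i)⁻¹ * t ^ j) * m') * m'⁻¹ = (t ^ i)⁻¹ * t ^ j := by group
      rwa [h5] at h4
    have h4 : (t ^ i)⁻¹ * t ^ j = t ^ ((j : ℤ) - i) := by
      rw [zpow_sub, zpow_natCast, zpow_natCast]
      exact ((Commute.refl t).pow_pow j i).inv_right.eq.symm
    rw [h4] at h3
    have h5 := hpow _ h3
    simp only [Finset.coe_range, Set.mem_Iio] at hi hj
    have h6 : ((j : ℤ) - i).natAbs < p := by omega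
    have h7 := Int.natAbs_dvd_natAbs.2 h5
    rw [Int.natAbs_natCast] at h7
    have h8 := Nat.eq_zero_of_dvd_of_lt h7 h6
    omega
  -- the homomorphism
  have hMt : ∀ r ∈ M, t⁻¹ * r * t ∈ M := by
    intro r hr
    have := hMn.conj_mem r hr t⁻¹
    rwa [inv_inv] at this
  let σ : M →* M :=
    { toFun := fun r => ⟨t⁻¹ * r * t, hMt r r.2⟩
      map_one' := by apply Subtype.ext; simp
      map_mul' := by
        intro a b
        apply Subtype.ext
        simp only [Subgroup.coe_mul]
        group }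
  have hσ : ∀ r : M, (σ r : Q) = t⁻¹ * r * t := fun r => rfl
  let lam : M →* Multiplicative (ZMod p) :=
    { toFun := fun m => ∏ z ∈ B, κ (m : Q) z
      map_one' := Finset.prod_eq_one fun z _ => cocycle_one hκ z
      map_mul' := by
        intro a b
        show ∏ z ∈ B, κ ((a : Q) * b) z = (∏ z ∈ B, κ (a : Q) z) * ∏ z ∈ B, κ (b : Q) z
        rw [Finset.prod_congr rfl fun z _ => hκ a b z, Finset.prod_mul_distrib,
          prod_smul_eq (hBM b b.2) (fun z => κ (a : Q) z)] }
  have hprod : ∏ z ∈ O, κ u z = ∏ i ∈ Finset.range p, lam (σ^[i] ⟨u, huM⟩) := by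
    rw [hOB, Finset.prod_biUnion hdisj]
    refine Finset.prod_congr rfl fun i _ => ?_
    rw [Finset.prod_image fun a _ b _ hab => MulAction.injective (t ^ i) hab]
    have h1 : ((t ^ i)⁻¹ * u * t ^ i) ∈ M := by
      have := hMn.conj_mem u huM (t ^ i)⁻¹
      rwa [inv_inv] at this
    rw [prod_translate hκ B (t ^ i) u (hBM _ h1)]
    show _ = ∏ z ∈ B, κ ((σ^[i] ⟨u, huM⟩ : M) : Q) z
    rw [iterate_conj M σ t hσ]
  rw [hprod, prod_iterate_eq] at hne
  have hcomm := iterate_comm M σ t hσ (p - 1) ⟨u, huM⟩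
  have hm : (fun y : Q => y⁻¹ * t⁻¹ * y * t)^[p - 1] ((⟨u, huM⟩ : M) : Q) ∈ M := by
    rw [← hcomm]
    exact Subtype.property _
  refine Cfsg.Agent.H545.Yoshida.exists_surjective_of_comm hQ M hMi lam t ⟨u, huM⟩ hm ?_
  have h1 : (⟨_, hm⟩ : M) = (fun w => w⁻¹ * σ w)^[p - 1] ⟨u, huM⟩ := Subtype.ext hcomm.symm
  rw [h1]
  exact hne

end Cfsg.Agent.H747.MonoOrbit
end

-- part: H747/Yoshida
section
/-!
# Yoshida's theorem for fusion systems (helper747)

* `transfer_eq_one_of_mem_focal`: the transfer of `θ : S → C_p` over a characteristic monomial set kills `foc(F)`.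
* `yoshida`: `H ≤ F` saturated over `S`, `F.Hom S = H.Hom S`, `foc(F) ≠ foc(H)`: `S` has a quotient `C_p ≀ C_p`.
-/

set_option autoImplicit false

namespace Cfsg.Agent.H747

open Cfsg Cfsg.FusionSystem Cfsg.Agent.H802

/-- Homomorphisms to the group of order `p` separate the elements of a group of exponent `p`. -/
theorem exists_hom_zmod_of_comm {V : Type*} [CommGroup V] {p : ℕ} [hp : Fact p.Prime]
    (hV : ∀ v : V, v ^ p = 1) {v : V} (hv : v ≠ 1) : ∃ θ : V →* Multiplicative (ZMod p), θ v ≠ 1 := by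
  let _ : Module (ZMod p) (Additive V) := AddCommGroup.zmodModule (n := p) (fun x => hV x.toMul)
  have hv' : Additive.ofMul v ≠ 0 := hv
  obtain ⟨φ, hφ⟩ : ∃ φ : Module.Dual (ZMod p) (Additive V), φ (Additive.ofMul v) ≠ 0 := by
    by_contra hcon
    push Not at hcon
    exact hv' ((Module.forall_dual_apply_eq_zero_iff (ZMod p) _).1 hcon)
  exact ⟨AddMonoidHom.toMultiplicativeRight φ.toAddMonoidHom, hφ⟩

/-- A subgroup containing the Frattini subgroup of a finite `p`-group is the intersection of kernels of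
homomorphisms to the group of order `p`. -/
theorem exists_hom_zmod {G : Type*} [Group G] [Finite G] {p : ℕ} [hp : Fact p.Prime]
    (hG : IsPGroup p G) {L : Subgroup G} (hL : frattini G ≤ L) {y : G} (hy : y ∉ L) :
    ∃ θ : G →* Multiplicative (ZMod p), (∀ x ∈ L, θ x = 1) ∧ θ y ≠ 1 := by
  have hcomm : ∀ a b : G, a * b * a⁻¹ * b⁻¹ ∈ L := fun a b =>
    hL (Cfsg.Agent.Lib.FrattiniPGroup.commutator_mem_frattini hG a b)
  have hLn : L.Normal := by
    refine ⟨fun n hn g => ?_⟩
    have h1 := L.mul_mem (hcomm g n) hn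
    have h2 : g * n * g⁻¹ * n⁻¹ * n = g * n * g⁻¹ := by group
    rwa [h2] at h1
  let _ : CommGroup (G ⧸ L) :=
    { (inferInstance : Group (G ⧸ L)) with
      mul_comm := by
        intro a b
        obtain ⟨a, rfl⟩ := QuotientGroup.mk'_surjective L a
        obtain ⟨b, rfl⟩ := QuotientGroup.mk'_surjective L b
        rw [← map_mul, ← map_mul]
        refine (QuotientGroup.eq (s := L)).2 ?_
        have h1 := hcomm b⁻¹ a⁻¹
        have h2 : b⁻¹ * a⁻¹ * b⁻¹⁻¹ * a⁻¹⁻¹ = (a * b)⁻¹ * (b * a) := by group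
        rwa [h2] at h1 }
  obtain ⟨θ, hθ⟩ := exists_hom_zmod_of_comm (V := G ⧸ L) (p := p) (by
    intro x
    obtain ⟨x, rfl⟩ := QuotientGroup.mk'_surjective L x
    have h1 : x ^ p ∈ L := hL (Cfsg.Agent.Lib.FrattiniPGroup.pow_mem_frattini hG x)
    have h2 : (QuotientGroup.mk' L) (x ^ p) = 1 := (QuotientGroup.eq_one_iff _).2 h1
    exact h2) (v := QuotientGroup.mk' L y) (fun h => hy ((QuotientGroup.eq_one_iff (N := L) _).1 h))
  refine ⟨θ.comp (QuotientGroup.mk' L), fun x hx => ?_, hθ⟩
  have h2 : (QuotientGroup.mk' L) x = 1 := (QuotientGroup.eq_one_iff _).2 hx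
  show θ ((QuotientGroup.mk' L) x) = 1
  rw [h2]
  exact map_one θ

variable {Ω : Type*} [Group Ω] {S : Subgroup Ω}

/-- The transfer of a homomorphism over a stable monomial set is invariant and so kills the focal subgroup. -/
theorem transfer_eq_one_of_mem_focal {F : FusionSystem S} {Y : Type*} [MulAction S Y] [Fintype Y]
    {c : S → Y → S} (hc : IsCocycle c) (hst : IsStableMono F c) {A : Type*} [CommGroup A]
    (θ : S →* A) (s : S) (hs : (s : Ω) ∈ F.focalSubgroup) : ∏ y : Y, θ (c s y) = 1 := by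
  let T : S →* A :=
    { toFun := fun s => ∏ y : Y, θ (c s y)
      map_one' := Finset.prod_eq_one fun y _ => by rw [hc.one, map_one]
      map_mul' := by
        intro a b
        show ∏ y : Y, θ (c (a * b) y) = (∏ y : Y, θ (c a y)) * ∏ y : Y, θ (c b y)
        have h1 : ∀ y : Y, θ (c (a * b) y) = θ (c a (b • y)) * θ (c b y) := fun y => by
          rw [hc, map_mul]
        rw [Finset.prod_congr rfl (fun y _ => h1 y), Finset.prod_mul_distrib]
        congr 1
        exact Fintype.prod_equiv (MulAction.toPerm b) _ _ (fun y => rfl) }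
  have hle : F.focalSubgroup ≤ T.ker.map S.subtype := by
    refine focal_le fun P φ hφ x => ?_
    have hx : (x : Ω) ∈ S := hom_le hφ x.2
    have hy : φ x ∈ S := hom_apply_mem hφ x
    refine ⟨(⟨x, hx⟩ : S)⁻¹ * ⟨φ x, hy⟩, ?_, rfl⟩
    show T _ = 1
    rw [map_mul, map_inv, inv_mul_eq_one]
    obtain ⟨e, d, hed⟩ := hst P φ hφ
    show ∏ y : Y, θ (c ⟨x, hx⟩ y) = ∏ y : Y, θ (c ⟨φ x, hy⟩ y)
    have h0 : ∏ y : Y, θ (c ⟨φ x, hy⟩ (e y)) = ∏ y : Y, θ (c ⟨φ x, hy⟩ y) :=
      Fintype.prod_equiv e _ _ (fun y => rfl)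
    rw [← h0]
    have h1 : ∀ y : Y, θ (c ⟨φ x, hy⟩ (e y)) =
        θ (d ((⟨x, hx⟩ : S) • y)) * θ (c ⟨x, hx⟩ y) * (θ (d y))⁻¹ := by
      intro y
      rw [(hed x ⟨x, hx⟩ ⟨φ x, hy⟩ rfl rfl y).2, map_mul, map_mul, map_inv]
    rw [Finset.prod_congr rfl (fun y _ => h1 y), Finset.prod_mul_distrib, Finset.prod_mul_distrib,
      Finset.prod_inv_distrib]
    have h2 : ∏ y : Y, θ (d ((⟨x, hx⟩ : S) • y)) = ∏ y : Y, θ (d y) :=
      Fintype.prod_equiv (MulAction.toPerm (⟨x, hx⟩ : S)) _ _ (fun y => rfl)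
    rw [h2, mul_right_comm, mul_inv_cancel, one_mul]
  obtain ⟨t, ht, hts⟩ := hle hs
  have h1 : t = s := Subtype.ext hts
  rw [h1] at ht
  exact ht

/-- `foc(F)` is strongly closed. -/
theorem focal_apply_mem {F : FusionSystem S} {P : Subgroup Ω} {φ : P →* Ω} (hφ : φ ∈ F.Hom P) (x : P)
    (hx : (x : Ω) ∈ F.focalSubgroup) : φ x ∈ F.focalSubgroup := by
  have h := F.focalSubgroup.mul_mem hx (focal_mem hφ x)
  rwa [mul_inv_cancel_left] at h

/-- **Yoshida's theorem for fusion systems**, from a characteristic monomial set. -/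
theorem yoshida_of_charMono {F H : FusionSystem S} {p : ℕ} [hp : Fact p.Prime] [Finite S]
    (hS : IsPGroup p S) (hF : F.IsSaturated p) (hH : H.IsSaturated p) (hle : H.IsSubsystemOf F)
    (hHS : F.Hom S ⊆ H.Hom S) {Y : Type*} [MulAction S Y] {c : S → Y → S} (hc : IsCharMono F p c)
    (hne : H.focalSubgroup ≠ F.focalSubgroup) :
    ∃ (W : Sylow p (Equiv.Perm (Fin (p ^ 2))))
      (f : ↥S →* ↥(W : Subgroup (Equiv.Perm (Fin (p ^ 2))))), Function.Surjective f := by
  classical
  by_contra hno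
  have hfinY := hc.fin
  have hft : Fintype Y := Fintype.ofFinite Y
  -- a homomorphism killing `Φ(S) foc(H)` and not `foc(F)`
  have h1 : ¬ F.focalSubgroup ≤ (frattini ↥S).map S.subtype ⊔ H.focalSubgroup := by
    intro h
    apply hne
    have h2 := tate_of_charMono hS hF hH hle hc h
    rw [focal_eq hS hF, focal_eq hS hH, h2]
  obtain ⟨y, hy, hyn⟩ := SetLike.not_le_iff_exists.1 h1
  have hyS : y ∈ S := focal_le_base F hy
  set L : Subgroup S := ((frattini ↥S).map S.subtype ⊔ H.focalSubgroup).subgroupOf S with hL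
  have hΦL : frattini ↥S ≤ L := by
    intro x hx
    rw [hL, Subgroup.mem_subgroupOf]
    exact Subgroup.mem_sup_left ⟨x, hx, rfl⟩
  obtain ⟨θ, hθL, hθy⟩ := exists_hom_zmod hS hΦL (y := ⟨y, hyS⟩) (by
    rw [hL, Subgroup.mem_subgroupOf]; exact hyn)
  have hθH : ∀ x : S, (x : Ω) ∈ H.focalSubgroup → θ x = 1 := fun x hx => hθL x (by
    rw [hL, Subgroup.mem_subgroupOf]
    exact Subgroup.mem_sup_right hx)
  -- an element of `foc(F)` of minimal order not in the kernel of `θ`
  have hex : ∃ n : ℕ, ∃ u : S, (u : Ω) ∈ F.focalSubgroup ∧ θ u ≠ 1 ∧ orderOf u = n :=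
    ⟨_, ⟨y, hyS⟩, hy, hθy, rfl⟩
  obtain ⟨u, huF, huθ, hun⟩ := Nat.find_spec hex
  have hmin : ∀ v : S, (v : Ω) ∈ F.focalSubgroup → orderOf v < orderOf u → θ v = 1 := by
    intro v hv hvu
    by_contra hne
    rw [hun] at hvu
    exact Nat.find_min hex hvu ⟨v, hv, hne, rfl⟩
  set κ : S → Y → Multiplicative (ZMod p) := fun s y => θ (c s y) with hκdef
  have hκ : ∀ g h y, κ (g * h) y = κ g (h • y) * κ h y := fun g h y => by
    show θ (c (g * h) y) = θ (c g (h • y)) * θ (c h y)
    rw [hc.cocycle, map_mul]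
  -- closed values
  have hclosed : ∀ z : Y, ∀ m, 0 < m → u • z ≠ z → u ^ m • z = z → κ (u ^ m) z = 1 := by
    intro z m hm huz hmz
    obtain ⟨P, φ, hφ, hP⟩ := hc.gen z
    obtain ⟨hmP, hcm⟩ := hP _ hmz
    apply hmin
    · rw [hcm]
      refine focal_apply_mem hφ _ ?_
      show ((u ^ m : S) : Ω) ∈ F.focalSubgroup
      rw [SubgroupClass.coe_pow]
      exact F.focalSubgroup.pow_mem huF m
    · -- the order drops
      have ho1 : orderOf (c (u ^ m) z) = orderOf (u ^ m) := by
        rw [← Subgroup.orderOf_coe, hcm, orderOf_injective φ (F.injective_of_mem hφ)]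
        rw [← Subgroup.orderOf_coe, ← Subgroup.orderOf_coe]
      rw [ho1]
      have hdvd : orderOf (u ^ m) ∣ orderOf u := orderOf_pow_dvd m
      refine lt_of_le_of_ne (Nat.le_of_dvd (orderOf_pos u) hdvd) fun heq => huz ?_
      -- then `u ^ m` generates `⟨u⟩`
      have h2 : u ∈ Subgroup.zpowers (u ^ m) := by
        have h3 : Subgroup.zpowers (u ^ m) ≤ Subgroup.zpowers u := by
          rw [Subgroup.zpowers_le]
          exact Subgroup.npow_mem_zpowers u m
        have h4 : Subgroup.zpowers (u ^ m) = Subgroup.zpowers u := by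
          apply Subgroup.eq_of_le_of_card_ge h3
          rw [Nat.card_zpowers, Nat.card_zpowers, heq]
        rw [h4]
        exact Subgroup.mem_zpowers u
      have h5 : Subgroup.zpowers (u ^ m) ≤ MulAction.stabilizer S z := by
        rw [Subgroup.zpowers_le]
        exact hmz
      exact h5 h2
  -- the transfer vanishes
  have hT : ∏ z : Y, κ u z = 1 := transfer_eq_one_of_mem_focal hc.cocycle hc.stable θ u huF
  -- nontrivial orbits
  have horb : ∀ x : Y, x ∉ MulAction.fixedPoints S Y →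
      ∏ z ∈ Finset.univ.filter (fun z => z ∈ MulAction.orbit S x), κ u z = 1 := by
    intro x hx
    by_contra hcon
    apply hno
    refine MonoOrbit.exists_surjective_of_orbit hS hκ x ?_ u (fun z _ m hm h2 h3 => hclosed z m hm h2 h3)
      _ (fun z => by simp) hcon
    rw [MulAction.mem_fixedPoints] at hx
    push Not at hx
    exact hx
  -- fixed points
  have hfix : ∀ z ∈ MulAction.fixedPoints S Y, κ u z = θ u := by
    intro z hz
    obtain ⟨P, φ, hφ, hP⟩ := hc.gen z
    have hSP : S ≤ P := fun s hs => (hP ⟨s, hs⟩ (hz ⟨s, hs⟩)).1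
    obtain ⟨huP, hcu⟩ := hP u (hz u)
    have h2 : φ.comp (Subgroup.inclusion hSP) ∈ H.Hom S := hHS (restrict_mem hφ hSP)
    have h3 : (u : Ω)⁻¹ * (φ.comp (Subgroup.inclusion hSP)) u ∈ H.focalSubgroup := focal_mem h2 u
    have h4 : ((u⁻¹ * c u z : S) : Ω) ∈ H.focalSubgroup := by
      show (u : Ω)⁻¹ * (c u z : Ω) ∈ H.focalSubgroup
      rw [hcu]
      exact h3
    have h5 := hθH _ h4
    rw [map_mul, map_inv, inv_mul_eq_one] at h5
    exact h5.symm
  -- the product over all of `Y`
  have hfixprod : ∏ z ∈ Finset.univ.filter (fun z => z ∈ MulAction.fixedPoints S Y), κ u z =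
      θ u ^ Nat.card (MulAction.fixedPoints S Y) := by
    rw [Finset.prod_congr rfl (fun z hz => hfix z (Finset.mem_filter.1 hz).2), Finset.prod_const]
    congr 1
    rw [Nat.card_eq_fintype_card, Fintype.card_subtype]
  have hnonfix : ∏ z ∈ Finset.univ.filter (fun z => z ∉ MulAction.fixedPoints S Y), κ u z = 1 := by
    rw [← Finset.prod_fiberwise_of_maps_to (s := Finset.univ.filter (fun z => z ∉ MulAction.fixedPoints S Y))
      (t := Finset.univ) (g := fun z => (Quotient.mk (MulAction.orbitRel S Y) z)) (fun _ _ => Finset.mem_univ _)]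
    refine Finset.prod_eq_one fun q _ => ?_
    rcases Finset.eq_empty_or_nonempty ((Finset.univ.filter (fun z => z ∉ MulAction.fixedPoints S Y)).filter
      (fun z => (Quotient.mk (MulAction.orbitRel S Y) z) = q)) with h0 | ⟨x, hx⟩
    · rw [h0, Finset.prod_empty]
    · rw [Finset.mem_filter, Finset.mem_filter] at hx
      obtain ⟨⟨-, hx1⟩, hx2⟩ := hx
      rw [← horb x hx1]
      refine Finset.prod_congr ?_ fun _ _ => rfl
      ext z
      rw [Finset.mem_filter, Finset.mem_filter, Finset.mem_filter, ← hx2]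
      constructor
      · rintro ⟨-, h⟩
        have h' : (MulAction.orbitRel S Y) z x := Quotient.exact h
        rw [MulAction.orbitRel_apply] at h'
        exact ⟨Finset.mem_univ _, h'⟩
      · rintro ⟨-, h⟩
        refine ⟨⟨Finset.mem_univ _, fun hz => hx1 ?_⟩, Quotient.sound ?_⟩
        · obtain ⟨g, hg⟩ := h
          have h2 : x = g⁻¹ • z := by rw [← hg]; simp
          rw [h2]
          have h3 : g⁻¹ • z = z := hz g⁻¹
          rw [h3]
          exact hz
        · show (MulAction.orbitRel S Y) z x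
          rw [MulAction.orbitRel_apply]
          exact h
  have hall : θ u ^ Nat.card (MulAction.fixedPoints S Y) = 1 := by
    rw [← hfixprod, ← hT, ← Finset.prod_filter_mul_prod_filter_not Finset.univ
      (fun z => z ∈ MulAction.fixedPoints S Y), hnonfix, mul_one]
  -- the number of fixed points is prime to `p`
  have hmod := hS.card_modEq_card_fixedPoints Y
  have hnd : ¬ p ∣ Nat.card (MulAction.fixedPoints S Y) := by
    intro h
    exact hc.card ((hmod.dvd_iff (dvd_refl p)).2 h)
  have hord : orderOf (θ u) ∣ Nat.card (MulAction.fixedPoints S Y) := orderOf_dvd_of_pow_eq_one hall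
  have hord2 : orderOf (θ u) = p := by
    refine orderOf_eq_prime ?_ huθ
    have : (θ u) ^ Nat.card (Multiplicative (ZMod p)) = 1 := pow_card_eq_one'
    rwa [show Nat.card (Multiplicative (ZMod p)) = p from Nat.card_zmod p] at this
  rw [hord2] at hord
  exact hnd hord

/-- **Yoshida's theorem for fusion systems.** -/
theorem yoshida {F H : FusionSystem S} {p : ℕ} [hp : Fact p.Prime] [Finite S]
    (hS : IsPGroup p S) (hF : F.IsSaturated p) (hH : H.IsSaturated p) (hle : H.IsSubsystemOf F)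
    (hHS : F.Hom S ⊆ H.Hom S) (hne : H.focalSubgroup ≠ F.focalSubgroup) :
    ∃ (W : Sylow p (Equiv.Perm (Fin (p ^ 2))))
      (f : ↥S →* ↥(W : Subgroup (Equiv.Perm (Fin (p ^ 2))))), Function.Surjective f := by
  obtain ⟨Y, _, c, hc⟩ := exists_charMono hS hF
  exact yoshida_of_charMono hS hF hH hle hHS hc hne

end Cfsg.Agent.H747
end
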