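import Cfsg.Agent.H747.Hyperfocal
import Cfsg.Agent.H759.FusLift
set_option linter.all false

/-!
# Strongly closed subgroups with abelian quotient and the focal subgroup (helper747)

`focal_le_of_stronglyClosed`: `F` saturated over `S`, `T` strongly closed with `[S, S] ≤ T` and `Aut_F(S)` trivial on
`S / T`. Then `foc(F) ≤ T`.
-/

set_option autoImplicit false

namespace Cfsg.Agent.H747

open scoped commutatorElement
open Cfsg Cfsg.FusionSystem Cfsg.Agent.H802

variable {Ω : Type*} [Group Ω] {S : Subgroup Ω}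

/-- **Burnside's theorem modulo a strongly closed subgroup**: `T` strongly closed, `[S, S] ≤ T`, and `Aut_F(S)`
trivial on `S / T`: all maps of the system are trivial modulo `T`. -/
theorem inv_mul_mem_of_stronglyClosed {F : FusionSystem S} {p : ℕ} [Fact p.Prime] [Finite S]
    (hS : IsPGroup p S) (hF : F.IsSaturated p) {T : Subgroup Ω} (hT : F.StronglyClosed T)
    (hST : ⁅(S : Subgroup Ω), (S : Subgroup Ω)⁆ ≤ T)
    (hA : ∀ φ ∈ F.Hom S, ∀ x : S, (x : Ω)⁻¹ * φ x ∈ T) :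
    ∀ (P : Subgroup Ω) (φ : P →* Ω), φ ∈ F.Hom P → ∀ x : P, (x : Ω)⁻¹ * φ x ∈ T := by
  have hcomm : ∀ a ∈ S, ∀ b ∈ S, a⁻¹ * (b * a * b⁻¹) ∈ T := by
    intro a ha b hb
    have h := hST (Subgroup.commutator_mem_commutator (S.inv_mem ha) hb)
    have e : ⁅a⁻¹, b⁆ = a⁻¹ * (b * a * b⁻¹) := by
      rw [commutatorElement_def]
      group
    rwa [e] at h
  refine Cfsg.Agent.H759.saturated_induction F hS hF
    (fun P φ => ∀ x : P, (x : Ω)⁻¹ * φ x ∈ T) ?_ ?_ ?_ ?_
  · intro P R φ χ _ hM h he x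
    rw [he x]
    exact hM ⟨x, h x.2⟩
  · intro P Q φ ψ χ _ _ hM hN he x
    obtain ⟨h, hx⟩ := he x
    rw [hx]
    have h3 := T.mul_mem (hM x) (hN ⟨φ x, h⟩)
    have h4 : (x : Ω)⁻¹ * φ x * ((φ x)⁻¹ * ψ ⟨φ x, h⟩) = (x : Ω)⁻¹ * ψ ⟨φ x, h⟩ := by group
    rwa [h4] at h3
  · intro P R φ χ _ hM _ he y
    obtain ⟨x, hx, hy⟩ := he y
    have h3 := T.inv_mem (hM x)
    rw [hy, ← hx]
    have h4 : ((x : Ω)⁻¹ * φ x)⁻¹ = (φ x)⁻¹ * x := by group
    rwa [h4] at h3
  · intro Q hQa hQr hbig α hα x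
    have hQS := hQa.1
    have hfinQ : Finite Q := finite_of_le hQS
    have hα' := (mem_autGroup_iff F hQS α).1 hα
    by_cases hTQ : T ≤ Q
    · -- `Q` is normalised by `S`
      have hSQ : S ≤ Subgroup.normalizer (Q : Set Ω) := by
        rw [Subgroup.le_normalizer_iff]
        intro s hs q hq
        have h1 := hcomm q (hQS hq) s hs
        have h2 := Q.mul_mem hq (hTQ h1)
        have h3 : q * (q⁻¹ * (s * q * s⁻¹)) = s * q * s⁻¹ := by group
        rwa [h3] at h2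
      -- the automorphisms trivial on `Q / T`
      let K : Subgroup (MulAut Q) :=
        { carrier := {κ | κ ∈ F.autGroup Q ∧ ∀ x : Q, (x : Ω)⁻¹ * (κ x : Q) ∈ T}
          mul_mem' := by
            rintro a b ⟨ha, ha'⟩ ⟨hb, hb'⟩
            refine ⟨mul_mem ha hb, fun x => ?_⟩
            have h1 := T.mul_mem (hb' x) (ha' (b x))
            have h2 : (x : Ω)⁻¹ * (b x : Q) * (((b x : Q) : Ω)⁻¹ * (a (b x) : Q)) =
                (x : Ω)⁻¹ * (a (b x) : Q) := by group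
            rw [h2] at h1
            exact h1
          one_mem' := ⟨one_mem _, fun x => by simp⟩
          inv_mem' := by
            rintro a ⟨ha, ha'⟩
            refine ⟨inv_mem ha, fun x => ?_⟩
            have h1 := T.inv_mem (ha' (a⁻¹ x))
            have h2 : a (a⁻¹ x) = x := by
              show (a * a⁻¹) x = x
              simp
            rw [h2] at h1
            have h3 : ((((a⁻¹ x : Q) : Ω))⁻¹ * (x : Ω))⁻¹ = (x : Ω)⁻¹ * ((a⁻¹ x : Q) : Ω) := by group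
            rwa [h3] at h1 }
      have hKA : K ≤ F.autGroup Q := fun κ hκ => hκ.1
      have hKn : ∀ a ∈ F.autGroup Q, ∀ k ∈ K, a * k * a⁻¹ ∈ K := by
        rintro a ha k ⟨hk, hk'⟩
        refine ⟨mul_mem (mul_mem ha hk) (inv_mem ha), fun x => ?_⟩
        have h1 := hk' (a⁻¹ x)
        have h2 : (((a⁻¹ x)⁻¹ * k (a⁻¹ x) : Q) : Ω) ∈ T := h1
        have h3 := Cfsg.Agent.H759.StronglyClosed.apply_mem hT ((mem_autGroup_iff F hQS a).1 ha) h2
        have h4 : (Q.subtype.comp a.toMonoidHom) ((a⁻¹ x)⁻¹ * k (a⁻¹ x)) =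
            (x : Ω)⁻¹ * ((a * k * a⁻¹) x : Q) := by
          show ((a ((a⁻¹ x)⁻¹ * k (a⁻¹ x)) : Q) : Ω) = _
          rw [map_mul, map_inv]
          have h5 : a (a⁻¹ x) = x := by
            show (a * a⁻¹) x = x
            simp
          rw [h5]
          rfl
        rwa [h4] at h3
      have hr : (Q.subtype.comp α.toMonoidHom).range = Q :=
        range_eq_of_mapsTo hα' (fun x => (α x).2)
      obtain ⟨k, hk, ψ, hψ, hψe⟩ := Cfsg.Agent.H759.exists_extension F hS hQa hQr hα' hr K hKA hKn S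
        le_rfl hSQ (fun g hg => by
          -- `c_g` on `Q`
          obtain ⟨γ, hγ⟩ := exists_conjAut (hSQ hg)
          have hγK : γ ∈ K := by
            refine ⟨?_, fun x => ?_⟩
            · exact autInducedBy_le_autGroup F hQS ((mem_autInducedBy_iff S Q γ).2 ⟨g, hg, hγ⟩)
            · rw [hγ]
              exact hcomm x (hQS x.2) g hg
          refine ⟨α * γ * α⁻¹, hKn α hα γ hγK, 1, S.one_mem, Subgroup.one_mem _, fun x hx hy => ?_⟩
          have e1 : (⟨1 * (Q.subtype.comp α.toMonoidHom) x * 1⁻¹, hy⟩ : Q) = α x := by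
            apply Subtype.ext
            show 1 * ((α x : Q) : Ω) * 1⁻¹ = (α x : Q)
            group
          rw [e1]
          have e2 : (α * γ * α⁻¹) (α x) = α (γ x) := by
            show α (γ (α⁻¹ (α x))) = _
            have : α⁻¹ (α x) = x := by
              show (α⁻¹ * α) x = x
              simp
            rw [this]
          rw [e2]
          have e3 : (⟨g * (x : Ω) * g⁻¹, hx⟩ : Q) = γ x := Subtype.ext (hγ x).symm
          show ((α ⟨g * (x : Ω) * g⁻¹, hx⟩ : Q) : Ω) = _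
          rw [e3])
      -- `ψ` is defined on `S`
      have hψ' : ∀ y : (Q ⊔ S : Subgroup Ω), (y : Ω)⁻¹ * ψ y ∈ T := fun y =>
        hA _ (restrict_mem hψ (le_sup_right : S ≤ Q ⊔ S)) ⟨y, (sup_le hQS le_rfl) y.2⟩
      have h1 := hψ' ⟨x, (le_sup_left : Q ≤ Q ⊔ S) x.2⟩
      rw [hψe x (α x).2 _] at h1
      have h2 := hk.2 (α x)
      have e : (⟨(Q.subtype.comp α.toMonoidHom) x, (α x).2⟩ : Q) = α x := rfl
      rw [e] at h1
      have h3 := T.mul_mem h1 (T.inv_mem h2)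
      have h4 : (x : Ω)⁻¹ * ((k (α x) : Q) : Ω) * (((α x : Q) : Ω)⁻¹ * ((k (α x) : Q) : Ω))⁻¹ =
          (x : Ω)⁻¹ * (α x : Q) := by group
      rw [h4] at h3
      exact h3
    · -- lift to `Q T`
      obtain ⟨ψ, hψ, h⟩ := Cfsg.Agent.H759.exists_lift hS hF hT Q _ hα'
      have hcard : Nat.card Q < Nat.card (Q ⊔ T : Subgroup Ω) := by
        have hfin : Finite (Q ⊔ T : Subgroup Ω) := finite_of_le (sup_le hQS hT.1)
        have hlt : Q < Q ⊔ T := lt_of_le_of_ne le_sup_left (fun h => hTQ (h ▸ le_sup_right))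
        refine lt_of_le_of_ne (Subgroup.card_le_of_le hlt.le) (fun h => hlt.ne ?_)
        exact Subgroup.eq_of_le_of_card_ge hlt.le h.ge
      have h1 := hbig _ ψ hψ hcard ⟨x, (le_sup_left : Q ≤ Q ⊔ T) x.2⟩
      have h2 := h x ((le_sup_left : Q ≤ Q ⊔ T) x.2)
      have h3 := T.mul_mem h1 (T.inv_mem h2)
      have h4 : (x : Ω)⁻¹ * ψ ⟨x, (le_sup_left : Q ≤ Q ⊔ T) x.2⟩ *
          (((Q.subtype.comp α.toMonoidHom) x)⁻¹ * ψ ⟨x, (le_sup_left : Q ≤ Q ⊔ T) x.2⟩)⁻¹ =
          (x : Ω)⁻¹ * (Q.subtype.comp α.toMonoidHom) x := by group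
      rw [h4] at h3
      exact h3

/-- `foc(F) ≤ T` for `T` strongly closed with `[S, S] ≤ T` and `Aut_F(S)` trivial on `S / T`. -/
theorem focal_le_of_stronglyClosed {F : FusionSystem S} {p : ℕ} [Fact p.Prime] [Finite S]
    (hS : IsPGroup p S) (hF : F.IsSaturated p) {T : Subgroup Ω} (hT : F.StronglyClosed T)
    (hST : ⁅(S : Subgroup Ω), (S : Subgroup Ω)⁆ ≤ T)
    (hA : ∀ φ ∈ F.Hom S, ∀ x : S, (x : Ω)⁻¹ * φ x ∈ T) : F.focalSubgroup ≤ T :=
  focal_le (inv_mul_mem_of_stronglyClosed hS hF hT hST hA)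

end Cfsg.Agent.H747
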